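import Groth.Prelude.Def_W4stktopologysheavesDim
import Mathlib.Topology.NoetherianSpace
import Mathlib.Topology.Sober

/-! Catenary spaces, codimension and dimension functions. -/

open Set Topology TopologicalSpace PtTop

set_option linter.style.haveILetI false

namespace Groth.Agent.H28Top

universe u v

variable {X : Type u} [TopologicalSpace X] {Y : Type v} [TopologicalSpace Y]

theorem length_le_codim (s : LTSeries (IrreducibleCloseds X)) {T : IrreducibleCloseds X}
    (h : s.last ≤ T) : (s.length : ℕ∞) ≤ codim s.head (T : Set X) :=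
  le_iSup₂_of_le s ⟨rfl, h⟩ le_rfl

theorem codim_le {T T' : IrreducibleCloseds X} {n : ℕ∞}
    (h : ∀ s : LTSeries (IrreducibleCloseds X), s.head = T → s.last ≤ T' → (s.length : ℕ∞) ≤ n) :
    codim T (T' : Set X) ≤ n :=
  iSup₂_le fun s hs => h s hs.1 hs.2

theorem exists_series_of_codim {T T' : IrreducibleCloseds X} {n : ℕ} (hle : T ≤ T')
    (hn : codim T (T' : Set X) = n) :
    ∃ s : LTSeries (IrreducibleCloseds X), s.head = T ∧ s.last = T' ∧ s.length = n ∧
      ∀ i : Fin s.length, s i.castSucc ⋖ s i.succ := by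
  obtain ⟨s, hsh, hsl, hlen⟩ : ∃ s : LTSeries (IrreducibleCloseds X),
      s.head = T ∧ s.last ≤ T' ∧ s.length = n := by
    rcases Nat.eq_zero_or_pos n with rfl | hpos
    · exact ⟨RelSeries.singleton _ T, rfl, hle, rfl⟩
    · by_contra hcon
      push Not at hcon
      have : codim T (T' : Set X) ≤ ((n - 1 : ℕ) : ℕ∞) := codim_le fun s h1 h2 => by
        have h3 := length_le_codim s h2
        rw [h1, hn, Nat.cast_le] at h3
        have := hcon s h1 h2
        exact_mod_cast (by omega : s.length ≤ n - 1)
      rw [hn, Nat.cast_le] at this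
      omega
  have hbound : ∀ t : LTSeries (IrreducibleCloseds X), t.head = T → t.last ≤ T' → t.length ≤ n := by
    intro t h1 h2
    have h3 := length_le_codim t h2
    rwa [h1, hn, Nat.cast_le] at h3
  have hlast : s.last = T' := by
    rcases hsl.eq_or_lt with h | h
    · exact h
    · exfalso
      have := hbound (s.snoc T' h) (by simp [hsh]) (by simp)
      simp only [RelSeries.snoc_length] at this
      omega
  refine ⟨s, hsh, hlast, hlen, fun i => ⟨s.step i, fun c hc1 hc2 => ?_⟩⟩
  have := hbound (s.insertNth i c hc1 hc2) (by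
      have : (s.insertNth i c hc1 hc2).head = s.head := by
        show Fin.insertNth (α := fun _ => IrreducibleCloseds X) i.succ.castSucc c s 0 = s 0
        have h0 : i.succ.castSucc.succAbove (0 : Fin (s.length + 1)) = 0 := by
          simp [Fin.succAbove, Fin.lt_def]
        conv_lhs => rw [← h0]
        exact Fin.insertNth_apply_succAbove _ _ _ _
      rw [this, hsh]) (by
      have : (s.insertNth i c hc1 hc2).last = s.last := by
        show Fin.insertNth (α := fun _ => IrreducibleCloseds X) i.succ.castSucc c s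
          (Fin.last (s.length + 1)) = s (Fin.last _)
        have hl : i.succ.castSucc.succAbove (Fin.last s.length) = Fin.last (s.length + 1) := by
          simp [Fin.succAbove, Fin.lt_def]
        conv_lhs => rw [← hl]
        exact Fin.insertNth_apply_succAbove _ _ _ _
      rw [this]; exact hsl)
  simp only [RelSeries.insertNth_length] at this
  omega

theorem codim_eq_of_covBy {T T' : IrreducibleCloseds X} (h : T ⋖ T') : codim T (T' : Set X) = 1 := by
  refine le_antisymm (codim_le fun s h1 h2 => ?_) ?_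
  · by_contra hlen
    push Not at hlen
    have hlen' : 1 < s.length := by exact_mod_cast hlen
    have h01 : s 0 < s ⟨1, by omega⟩ := s.strictMono (by simp [Fin.lt_def])
    have h12 : s ⟨1, by omega⟩ < s (Fin.last _) := s.strictMono (by simp [Fin.lt_def]; omega)
    exact h.2 (show T < _ from h1 ▸ h01) (h12.trans_le h2)
  · refine le_iSup₂_of_le (LTSeries.mk 1 ![T, T'] (Fin.strictMono_iff_lt_succ.mpr fun i => by
      fin_cases i; exact h.1)) ⟨rfl, subset_rfl⟩ ?_
    exact le_of_eq rfl

theorem isCatenarySpace_iff_additive :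
    IsCatenarySpace X ↔
      (∀ Z Z' : IrreducibleCloseds X, Z ≤ Z' → codim Z (Z' : Set X) ≠ ⊤) ∧
      (∀ Z Z' Z'' : IrreducibleCloseds X, Z ≤ Z' → Z' ≤ Z'' →
        codim Z (Z'' : Set X) = codim Z (Z' : Set X) + codim Z' (Z'' : Set X)) := by
  constructor
  · intro h
    refine ⟨fun Z Z' hle => (h Z Z' hle).1, fun Z Z' Z'' h1 h2 => ?_⟩
    obtain ⟨n, hn⟩ := ENat.ne_top_iff_exists.mp (h Z Z' h1).1
    obtain ⟨m, hm⟩ := ENat.ne_top_iff_exists.mp (h Z' Z'' h2).1
    obtain ⟨s, hs1, hs2, hs3, hs4⟩ := exists_series_of_codim h1 hn.symm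
    obtain ⟨t, ht1, ht2, ht3, ht4⟩ := exists_series_of_codim h2 hm.symm
    have key := (h Z Z'' (h1.trans h2)).2 (s.smash t (hs2.trans ht1.symm)) (by simp [hs1]) (by simp [ht2])
      (fun i => by
        refine Fin.addCases (fun j => ?_) (fun j => ?_) i
        · have e1 := RelSeries.smash_castAdd (hs2.trans ht1.symm) j
          have e2 := RelSeries.smash_succ_castAdd (hs2.trans ht1.symm) j
          exact e1 ▸ e2 ▸ hs4 j
        · have e1 := RelSeries.smash_natAdd (hs2.trans ht1.symm) j
          have e2 := RelSeries.smash_succ_natAdd (hs2.trans ht1.symm) j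
          exact e1 ▸ e2 ▸ ht4 j)
    rw [← key, ← hn, ← hm, RelSeries.smash_length, hs3, ht3]
    push_cast; rfl
  · rintro ⟨hfin, hadd⟩ T T' hle
    refine ⟨hfin T T' hle, fun s h1 h2 hcov => ?_⟩
    suffices ∀ i : Fin (s.length + 1), (i.val : ℕ∞) = codim s.head ((s i : IrreducibleCloseds X) : Set X) by
      have := this (Fin.last _)
      rw [← RelSeries.last, h1, h2] at this
      simpa using this
    intro i
    induction i using Fin.induction with
    | zero =>
      refine le_antisymm (by simp) (codim_le fun t ht1 ht2 => ?_)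
      by_contra hne
      have hpos : 0 < t.length := Nat.pos_of_ne_zero fun h => hne (by simp [h])
      have : t.head < t.last := t.strictMono (by simp [Fin.lt_def]; omega)
      rw [ht1] at this
      exact (this.trans_le ht2).ne rfl
    | succ i ih =>
      rw [hadd s.head (s i.castSucc) (s i.succ) (s.monotone (Fin.zero_le _))
        (hcov i).le, ← ih, codim_eq_of_covBy (hcov i)]
      simp

/-- Catenarity transfers along interval-preserving embeddings of irreducible closed sets. -/
theorem isCatenarySpace_of_orderEmbedding (e : IrreducibleCloseds Y ↪o IrreducibleCloseds X)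
    (he : ∀ a b Z, e a ≤ Z → Z ≤ e b → Z ∈ range e) (h : IsCatenarySpace X) : IsCatenarySpace Y := by
  intro T T' hle
  have hcod : codim T (T' : Set Y) = codim (e T) (e T' : Set X) := by
    refine le_antisymm (codim_le fun s h1 h2 => ?_) (codim_le fun s h1 h2 => ?_)
    · have := length_le_codim (s.map e e.strictMono) (T := e T') (by simp [h2])
      simpa [h1] using this
    · have hmem : ∀ i, s i ∈ range e := fun i =>
        he T T' (s i) (h1 ▸ s.monotone (Fin.zero_le i)) ((s.monotone (Fin.le_last i)).trans h2)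
      choose f hf using hmem
      let t : LTSeries (IrreducibleCloseds Y) := ⟨s.length, f, fun i => by
        show f i.castSucc < f i.succ
        rw [← e.lt_iff_lt, hf, hf]; exact s.step i⟩
      have ht1 : t.head = T := e.injective (by rw [show t.head = f 0 from rfl, hf]; exact h1)
      have ht2 : t.last ≤ T' := by
        rw [← e.le_iff_le, show t.last = f (Fin.last _) from rfl, hf]; exact h2
      have := length_le_codim t ht2
      rwa [ht1] at this
  obtain ⟨hfin, hmax⟩ := h (e T) (e T') (e.monotone hle)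
  refine ⟨hcod ▸ hfin, fun s h1 h2 hcov => ?_⟩
  rw [hcod, ← hmax (s.map e e.strictMono) (by simp [h1]) (by simp [h2]) fun i => ?_]
  · rfl
  · refine ⟨e.strictMono (hcov i).1, fun c hc1 hc2 => ?_⟩
    obtain ⟨d, rfl⟩ := he _ _ c (le_of_lt hc1) (le_of_lt hc2)
    exact (hcov i).2 (e.lt_iff_lt.mp hc1) (e.lt_iff_lt.mp hc2)

theorem isCatenarySpace_subtype {S : Set X} (hS : IsLocallyClosed S) (h : IsCatenarySpace X) :
    IsCatenarySpace S := by
  let f : IrreducibleCloseds S → IrreducibleCloseds X :=
    IrreducibleCloseds.map (Subtype.val : S → X) continuous_subtype_val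
  have hmono : StrictMono f := IrreducibleCloseds.map_strictMono_of_isInducing IsInducing.subtypeVal
  have hf : ∀ Z, (f Z : Set X) = closure (Subtype.val '' (Z : Set S)) := fun Z => rfl
  have hpre : ∀ Z : IrreducibleCloseds S, Subtype.val ⁻¹' (f Z : Set X) = (Z : Set S) := fun Z => by
    rw [hf]; ext w
    rw [mem_preimage, ← closure_subtype, Z.isClosed.closure_eq]
  let e : IrreducibleCloseds S ↪o IrreducibleCloseds X := OrderEmbedding.ofMapLEIff f fun a b => by
    refine ⟨fun hab x hx => ?_, fun hab => hmono.monotone hab⟩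
    have hx' : x ∈ (Subtype.val ⁻¹' (f a : Set X) : Set S) := (hpre a).ge hx
    exact (hpre b).le (hab hx')
  refine isCatenarySpace_of_orderEmbedding e (fun a b Z haZ hZb => ?_) h
  obtain ⟨U, C, hU, hC, hUC⟩ := hS
  obtain ⟨z, hz⟩ := a.isIrreducible.nonempty
  have hzZ : (z : X) ∈ (Z : Set X) := haZ (subset_closure ⟨z, hz, rfl⟩)
  have hbC : closure (Subtype.val '' (b : Set S)) ⊆ C := closure_minimal
    (by rintro _ ⟨w, -, rfl⟩; exact ((Set.ext_iff.mp hUC w).mp w.2).2) hC
  have hZC : (Z : Set X) ⊆ C := fun w hw => hbC (hZb hw)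
  have hZS : (Z : Set X) ∩ S = (Z : Set X) ∩ U := by
    ext x
    exact ⟨fun hx => ⟨hx.1, ((Set.ext_iff.mp hUC x).mp hx.2).1⟩,
      fun hx => ⟨hx.1, (Set.ext_iff.mp hUC x).mpr ⟨hx.2, hZC hx.1⟩⟩⟩
  have hzU : (z : X) ∈ U := ((Set.ext_iff.mp hUC z).mp z.2).1
  have hirr : IsIrreducible (Subtype.val ⁻¹' (Z : Set X) : Set S) := by
    refine ⟨⟨z, hzZ⟩, ?_⟩
    rintro _ _ ⟨p, hp, rfl⟩ ⟨q, hq, rfl⟩ ⟨x, hx, hxp⟩ ⟨y, hy, hyq⟩
    obtain ⟨w, hw, ⟨hwp, hwU⟩, hwq, -⟩ := Z.isIrreducible.isPreirreducible (p ∩ U) (q ∩ U)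
      (hp.inter hU) (hq.inter hU) ⟨x, hx, hxp, ((Set.ext_iff.mp hUC x).mp x.2).1⟩
      ⟨y, hy, hyq, ((Set.ext_iff.mp hUC y).mp y.2).1⟩
    exact ⟨⟨w, (Set.ext_iff.mp hUC w).mpr ⟨hwU, hZC hw⟩⟩, hw, hwp, hwq⟩
  refine ⟨⟨_, hirr, Z.isClosed.preimage continuous_subtype_val⟩, IrreducibleCloseds.ext ?_⟩
  show closure (Subtype.val '' (Subtype.val ⁻¹' (Z : Set X) : Set S)) = (Z : Set X)
  rw [Subtype.image_preimage_coe, inter_comm S, hZS]
  exact Subset.antisymm (closure_minimal inter_subset_left Z.isClosed)
    (subset_closure_inter_of_isPreirreducible_of_isOpen Z.isIrreducible.isPreirreducible hU ⟨z, hzZ, hzU⟩)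

theorem isCatenarySpace_of_cover (h : ∀ x : X, ∃ U : Opens X, x ∈ U ∧ IsCatenarySpace U) :
    IsCatenarySpace X := by
  intro T T' hle
  obtain ⟨x, hx⟩ := T.isIrreducible.nonempty
  obtain ⟨U, hxU, hU⟩ := h x
  have hemb := U.isOpen.isOpenEmbedding_subtypeVal
  let f : IrreducibleCloseds U → IrreducibleCloseds X :=
    IrreducibleCloseds.map (Subtype.val : U → X) continuous_subtype_val
  have hf : ∀ Z : IrreducibleCloseds X, ((Z : Set X) ∩ U).Nonempty → ∃ W, f W = Z := by
    intro Z hne
    have hirr : IsIrreducible (Subtype.val ⁻¹' (Z : Set X) : Set U) :=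
      ⟨by obtain ⟨z, hz, hzU⟩ := hne; exact ⟨⟨z, hzU⟩, hz⟩,
        Z.isIrreducible.isPreirreducible.preimage hemb⟩
    refine ⟨⟨_, hirr, Z.isClosed.preimage continuous_subtype_val⟩, IrreducibleCloseds.ext ?_⟩
    show closure (Subtype.val '' (Subtype.val ⁻¹' (Z : Set X) : Set U)) = (Z : Set X)
    erw [Subtype.image_preimage_coe]
    rw [inter_comm]
    exact Subset.antisymm (closure_minimal inter_subset_left Z.isClosed)
      (subset_closure_inter_of_isPreirreducible_of_isOpen Z.isIrreducible.isPreirreducible U.isOpen hne)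
  have hpre : ∀ Z : IrreducibleCloseds U, Subtype.val ⁻¹' (f Z : Set X) = (Z : Set U) := fun Z => by
    ext w
    show w.1 ∈ closure (Subtype.val '' (Z : Set U)) ↔ w ∈ (Z : Set U)
    rw [← closure_subtype, Z.isClosed.closure_eq]
  have hmono : StrictMono f := IrreducibleCloseds.map_strictMono_of_isInducing IsInducing.subtypeVal
  have hrefl : ∀ a b, f a ≤ f b → a ≤ b := fun a b hab y hy => by
    have hy' : y ∈ (Subtype.val ⁻¹' (f a : Set X) : Set U) := (hpre a).ge hy
    exact (hpre b).le (hab hy')
  have hinj : Function.Injective f := fun a b hab =>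
    le_antisymm (hrefl a b hab.le) (hrefl b a hab.ge)
  obtain ⟨A, rfl⟩ := hf T ⟨x, hx, hxU⟩
  obtain ⟨A', rfl⟩ := hf T' ⟨x, hle hx, hxU⟩
  have hlift : ∀ s : LTSeries (IrreducibleCloseds X), s.head = f A →
      ∃ t : LTSeries (IrreducibleCloseds U), t.map f hmono = s := by
    intro s hs
    have : ∀ i, ∃ W, f W = s i := fun i =>
      hf _ ⟨x, (show s.head ≤ s i from s.monotone (Fin.zero_le i)) (hs ▸ hx), hxU⟩
    choose g hg using this
    refine ⟨⟨s.length, g, fun i => ?_⟩, ?_⟩
    · show g i.castSucc < g i.succ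
      have : f (g i.castSucc) < f (g i.succ) := by rw [hg, hg]; exact s.step i
      exact lt_of_le_not_ge (hrefl _ _ this.le) fun hle' => not_le_of_gt this (hmono.monotone hle')
    · ext1
      · rfl
      · funext i; exact hg i
  have hcod : codim (f A) (f A' : Set X) = codim A (A' : Set U) := by
    refine le_antisymm (codim_le fun s h1 h2 => ?_) (codim_le fun s h1 h2 => ?_)
    · obtain ⟨t, rfl⟩ := hlift s h1
      have := length_le_codim t (hrefl _ _ (by simpa using h2))
      rwa [show t.head = A from hinj (by simpa using h1)] at this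
    · have := length_le_codim (s.map f hmono) (T := f A') (by simpa using hmono.monotone h2)
      simpa [h1] using this
  obtain ⟨hfin, hmax⟩ := hU A A' (hrefl _ _ hle)
  refine ⟨hcod ▸ hfin, fun s h1 h2 hcov => ?_⟩
  obtain ⟨t, rfl⟩ := hlift s h1
  rw [hcod]
  exact hmax t (hinj (by simpa using h1)) (hinj (by simpa using h2)) fun i =>
    ⟨t.step i, fun c hc1 hc2 => (hcov i).2 (hmono hc1) (hmono hc2)⟩

section DimensionFunction

variable [QuasiSober X] [T0Space X] {δ : X → ℤ}

theorem exists_point (Z : IrreducibleCloseds X) :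
    ∃ x : X, (⟨closure {x}, isIrreducible_singleton.closure, isClosed_closure⟩ : IrreducibleCloseds X) = Z := by
  obtain ⟨x, hx⟩ := QuasiSober.sober Z.isIrreducible Z.isClosed
  exact ⟨x, IrreducibleCloseds.ext hx⟩

/-- The irreducible closed set attached to a point. -/
def pointClosure (x : X) : IrreducibleCloseds X :=
  ⟨closure {x}, isIrreducible_singleton.closure, isClosed_closure⟩

omit [QuasiSober X] [T0Space X] in
theorem pointClosure_le {x y : X} : pointClosure y ≤ pointClosure x ↔ x ⤳ y :=
  specializes_iff_closure_subset.symm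

omit [QuasiSober X] in
theorem pointClosure_injective : Function.Injective (pointClosure (X := X)) := fun x y h =>
  ((pointClosure_le.mp h.ge).antisymm (pointClosure_le.mp h.le)).eq

variable (hδ : IsDimensionFunction δ)
include hδ

theorem length_le_sub (s : LTSeries (IrreducibleCloseds X)) {x y : X}
    (h1 : s.head = pointClosure y) (h2 : s.last ≤ pointClosure x) : (s.length : ℤ) ≤ δ x - δ y := by
  choose p hp using fun i => exists_point (s i)
  have hp' : ∀ i, pointClosure (p i) = s i := hp
  have key : ∀ i : Fin (s.length + 1), (i.val : ℤ) ≤ δ (p i) - δ y := by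
    intro i
    induction i using Fin.induction with
    | zero => simp [pointClosure_injective (a₁ := p 0) (a₂ := y) (by rw [hp']; exact h1)]
    | succ i ih =>
      have hlt : pointClosure (p i.castSucc) < pointClosure (p i.succ) := by rw [hp', hp']; exact s.step i
      have := hδ.1 _ _ (pointClosure_le.mp hlt.le) (fun h => hlt.ne (h ▸ rfl))
      simp only [Fin.val_succ, Fin.val_castSucc] at ih ⊢
      push_cast
      omega
  have h3 : x ⤳ p (Fin.last _) := pointClosure_le.mp (by rw [hp']; exact h2)
  have h4 : δ (p (Fin.last _)) ≤ δ x := by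
    by_cases h : x = p (Fin.last _)
    · rw [h]
    · exact (hδ.1 _ _ h3 h).le
  have := key (Fin.last _)
  simp only [Fin.val_last] at this
  omega

theorem codim_le_toNat {x y : X} :
    codim (pointClosure y) (pointClosure x : Set X) ≤ ((δ x - δ y).toNat : ℕ∞) :=
  codim_le fun s h1 h2 => by
    have := length_le_sub hδ s h1 h2
    exact_mod_cast (by omega : s.length ≤ (δ x - δ y).toNat)

theorem length_eq_sub (s : LTSeries (IrreducibleCloseds X)) {x y : X}
    (h1 : s.head = pointClosure y) (h2 : s.last = pointClosure x)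
    (hcov : ∀ i : Fin s.length, s i.castSucc ⋖ s i.succ) : (s.length : ℤ) = δ x - δ y := by
  choose p hp using fun i => exists_point (s i)
  have hp' : ∀ i, pointClosure (p i) = s i := hp
  have key : ∀ i : Fin (s.length + 1), (i.val : ℤ) = δ (p i) - δ y := by
    intro i
    induction i using Fin.induction with
    | zero => simp [pointClosure_injective (a₁ := p 0) (a₂ := y) (by rw [hp']; exact h1)]
    | succ i ih =>
      have hc := hcov i
      rw [← hp', ← hp'] at hc
      have := hδ.2 (p i.succ) (p i.castSucc) ⟨pointClosure_le.mp hc.le, fun h => hc.1.ne (by rw [h]),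
        fun z hz1 hz2 => by
          rcases hc.eq_or_eq (pointClosure_le.mpr hz2) (pointClosure_le.mpr hz1) with h | h
          · exact .inr (pointClosure_injective h)
          · exact .inl (pointClosure_injective h)⟩
      simp only [Fin.val_succ, Fin.val_castSucc] at ih ⊢
      push_cast
      omega
  have := key (Fin.last _)
  simp only [Fin.val_last] at this
  rwa [pointClosure_injective (a₁ := p (Fin.last _)) (a₂ := x) (by rw [hp']; exact h2)] at this

theorem codim_eq_toNat {x y : X} (hxy : x ⤳ y) :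
    codim (pointClosure y) (pointClosure x : Set X) = ((δ x - δ y).toNat : ℕ∞) := by
  obtain ⟨n, hn⟩ := ENat.ne_top_iff_exists.mp (ne_top_of_le_ne_top (ENat.coe_ne_top _) (codim_le_toNat hδ (x := x) (y := y)))
  obtain ⟨s, h1, h2, h3, h4⟩ := exists_series_of_codim (pointClosure_le.mpr hxy) hn.symm
  have := length_eq_sub hδ s h1 h2 h4
  rw [← hn]
  exact_mod_cast (by omega : n = (δ x - δ y).toNat)

theorem isCatenarySpace_of_dimensionFunction : IsCatenarySpace X := by
  intro T T' hle
  obtain ⟨y, hy⟩ := exists_point T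
  obtain ⟨x, hx⟩ := exists_point T'
  obtain rfl : pointClosure y = T := hy
  obtain rfl : pointClosure x = T' := hx
  have hc := codim_eq_toNat hδ (pointClosure_le.mp hle)
  refine ⟨hc ▸ ENat.coe_ne_top _, fun s h1 h2 hcov => ?_⟩
  have := length_eq_sub hδ s h1 h2 hcov
  rw [hc]
  exact_mod_cast (by omega : s.length = (δ x - δ y).toNat)

theorem sub_eq_of_specializes {δ' : X → ℤ} (hδ' : IsDimensionFunction δ') {x y : X} (hxy : x ⤳ y) :
    δ x - δ' x = δ y - δ' y := by
  have h1 := codim_eq_toNat hδ hxy
  rw [codim_eq_toNat hδ' hxy, Nat.cast_inj] at h1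
  rcases eq_or_ne x y with rfl | hne
  · rfl
  · have := hδ.1 x y hxy hne
    have := hδ'.1 x y hxy hne
    omega

end DimensionFunction

end Groth.Agent.H28Top
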