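import Mathlib.Topology.Constructible
import Mathlib.Topology.NoetherianSpace
import Mathlib.Topology.Sober

/-! Constructible sets in Noetherian spaces and decompositions of constructible sets. -/

open Set Topology TopologicalSpace

set_option linter.style.haveILetI false

namespace Groth.Agent.H28Top

universe u

variable {X : Type u} [TopologicalSpace X]

theorem exists_finset_sdiff_of_isConstructible {E : Set X} (hE : IsConstructible E) :
    ∃ t : Finset (Set X × Set X),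
      (∀ p ∈ t, (IsOpen p.1 ∧ IsRetrocompact p.1) ∧ (IsOpen p.2 ∧ IsRetrocompact p.2)) ∧
      E = ⋃ p ∈ t, p.1 \ p.2 := by
  classical
  have hsub : IsSublattice {U : Set X | IsOpen U ∧ IsRetrocompact U} :=
    ⟨fun a ha b hb => ⟨ha.1.union hb.1, ha.2.union hb.2⟩,
      fun a ha b hb => ⟨ha.1.inter hb.1, ha.2.inter_isOpen hb.2 hb.1⟩⟩
  obtain ⟨t, rfl⟩ := (BooleanSubalgebra.mem_closure_iff_sup_sdiff hsub
    ⟨isOpen_empty, IsRetrocompact.empty⟩ ⟨isOpen_univ, IsRetrocompact.univ⟩).mp hE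
  refine ⟨t.image fun x => (x.1.1, x.2.1), ?_, ?_⟩
  · simp only [Finset.mem_image]
    rintro _ ⟨x, -, rfl⟩
    exact ⟨x.1.2, x.2.2⟩
  · rw [Finset.sup_eq_iSup, Finset.set_biUnion_finset_image]
    rfl

theorem exists_finset_isLocallyClosed {E : Set X} (hE : IsConstructible E) :
    ∃ t : Finset (Set X), (∀ L ∈ t, IsLocallyClosed L) ∧ E = ⋃ L ∈ t, L := by
  classical
  obtain ⟨t, ht, rfl⟩ := exists_finset_sdiff_of_isConstructible hE
  refine ⟨t.image fun p => p.1 \ p.2, ?_, by rw [Finset.set_biUnion_finset_image]⟩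
  simp only [Finset.mem_image]
  rintro _ ⟨p, hp, rfl⟩
  exact (ht p hp).1.1.isLocallyClosed.inter (ht p hp).2.1.isClosed_compl.isLocallyClosed

theorem isRetrocompact_of_isConstructible {E : Set X} (hE : IsConstructible E) : IsRetrocompact E := by
  classical
  obtain ⟨t, ht, rfl⟩ := exists_finset_sdiff_of_isConstructible hE
  refine IsRetrocompact.biUnion t.finite_toSet fun p hp W hW hW' => ?_
  have h1 : IsCompact (p.1 ∩ W) := (ht p hp).1.2 hW hW'
  have h2 := h1.inter_right (ht p hp).2.1.isClosed_compl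
  convert h2 using 1
  ext x; simp; tauto

theorem isConstructible_of_isOpen [NoetherianSpace X] {U : Set X} (hU : IsOpen U) :
    IsConstructible U :=
  IsRetrocompact.isConstructible hU fun _ _ _ => NoetherianSpace.isCompact _

theorem isConstructible_of_isClosed [NoetherianSpace X] {Z : Set X} (hZ : IsClosed Z) :
    IsConstructible Z :=
  isConstructible_compl.mp (isConstructible_of_isOpen hZ.isOpen_compl)

theorem isConstructible_of_isLocallyClosed [NoetherianSpace X] {L : Set X} (hL : IsLocallyClosed L) :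
    IsConstructible L := by
  obtain ⟨U, Z, hU, hZ, rfl⟩ := hL
  exact (isConstructible_of_isOpen hU).inter (isConstructible_of_isClosed hZ)

/-- Noetherian induction on closed sets. -/
theorem noeth_induction [NoetherianSpace X] (P : Set X → Prop)
    (h : ∀ Z, IsClosed Z → (∀ W, IsClosed W → W ⊂ Z → P W) → P Z) {Z : Set X} (hZ : IsClosed Z) :
    P Z := by
  suffices ∀ C : Closeds X, P (C : Set X) from this ⟨Z, hZ⟩
  intro C
  induction C using WellFoundedLT.induction with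
  | _ C ih => exact h C C.isClosed fun W hW hWC => ih ⟨W, hW⟩ hWC

/-- Induction where the reducible step is a union. -/
theorem noeth_induction_irreducible [NoetherianSpace X] (P : Set X → Prop) (h0 : P ∅)
    (hunion : ∀ A B, IsClosed A → IsClosed B → P A → P B → P (A ∪ B))
    (hirr : ∀ Z, IsClosed Z → IsIrreducible Z → (∀ W, IsClosed W → W ⊂ Z → P W) → P Z)
    {Z : Set X} (hZ : IsClosed Z) : P Z := by
  refine noeth_induction P (fun Z hZ ih => ?_) hZ
  rcases Z.eq_empty_or_nonempty with rfl | hne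
  · exact h0
  by_cases hpre : IsPreirreducible Z
  · exact hirr Z hZ ⟨hne, hpre⟩ ih
  · rw [isPreirreducible_iff_isClosed_union_isClosed] at hpre
    push Not at hpre
    obtain ⟨A, B, hA, hB, hsub, hA', hB'⟩ := hpre
    have hEq : Z = (Z ∩ A) ∪ (Z ∩ B) := by
      rw [← inter_union_distrib_left, inter_eq_left.mpr hsub]
    rw [hEq]
    refine hunion _ _ (hZ.inter hA) (hZ.inter hB) (ih _ (hZ.inter hA) ?_) (ih _ (hZ.inter hB) ?_)
    · exact ⟨inter_subset_left, fun h => hA' (h.trans inter_subset_right)⟩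
    · exact ⟨inter_subset_left, fun h => hB' (h.trans inter_subset_right)⟩

theorem exists_isOpen_inter_subset_of_subset_closure {Y E : Set X} (hY : IsIrreducible Y)
    {ι : Type*} (t : Finset ι) (L : ι → Set X) (hL : ∀ i ∈ t, IsLocallyClosed (L i))
    (hE : E = ⋃ i ∈ t, L i) (hd : Y ⊆ closure (E ∩ Y)) :
    ∃ U, IsOpen U ∧ (U ∩ Y).Nonempty ∧ U ∩ Y ⊆ E := by
  classical
  obtain ⟨C, hC, hYC⟩ := isIrreducible_iff_sUnion_isClosed.mp hY
    (t.image fun i => closure (L i ∩ Y)) (by simp) (by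
      rw [hE, iUnion₂_inter, t.closure_biUnion] at hd
      refine hd.trans (iUnion₂_subset fun i hi => subset_sUnion_of_mem ?_)
      simpa using ⟨i, hi, rfl⟩)
  obtain ⟨i, hi, rfl⟩ := Finset.mem_image.mp hC
  obtain ⟨U, Z, hU, hZ, hUZ⟩ := hL i hi
  obtain ⟨y, hy⟩ : (L i ∩ Y).Nonempty := by
    by_contra h
    rw [not_nonempty_iff_eq_empty.mp h, closure_empty] at hYC
    exact hY.nonempty.ne_empty (subset_empty_iff.mp hYC)
  refine ⟨U, hU, ⟨y, (hUZ ▸ hy.1).1, hy.2⟩, ?_⟩
  rintro z ⟨hzU, hzY⟩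
  have hzZ : z ∈ Z := closure_minimal (inter_subset_left.trans (hUZ ▸ inter_subset_right)) hZ (hYC hzY)
  exact hE ▸ mem_biUnion hi (hUZ ▸ ⟨hzU, hzZ⟩)

theorem IsConstructible.exists_isOpen_inter_subset {Y E : Set X} (hE : IsConstructible E)
    (hY : IsIrreducible Y) (hd : Y ⊆ closure (E ∩ Y)) :
    ∃ U, IsOpen U ∧ (U ∩ Y).Nonempty ∧ U ∩ Y ⊆ E := by
  obtain ⟨t, ht, hEt⟩ := exists_finset_isLocallyClosed hE
  exact exists_isOpen_inter_subset_of_subset_closure hY t id ht hEt hd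

theorem subset_closure_of_isOpen_inter_subset {Y E U : Set X} (hY : IsIrreducible Y) (hU : IsOpen U)
    (hne : (U ∩ Y).Nonempty) (hsub : U ∩ Y ⊆ E) : Y ⊆ closure (E ∩ Y) :=
  (subset_closure_inter_of_isPreirreducible_of_isOpen hY.isPreirreducible hU (by rwa [inter_comm])).trans
    (closure_mono fun _ hz => ⟨hsub ⟨hz.2, hz.1⟩, hz.1⟩)

theorem dense_subtype_iff {Y E : Set X} :
    Dense (Subtype.val ⁻¹' E : Set Y) ↔ Y ⊆ closure (E ∩ Y) := by
  rw [Subtype.dense_iff, Subtype.image_preimage_coe, inter_comm]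

theorem isNowhereDense_subtype_iff {Y E : Set X} (hY : IsIrreducible Y) :
    IsNowhereDense (Subtype.val ⁻¹' E : Set Y) ↔ ¬ Y ⊆ closure (E ∩ Y) := by
  haveI : IrreducibleSpace Y := Subtype.irreducibleSpace hY
  rw [← dense_subtype_iff]
  refine ⟨fun h hd => ?_, fun h => ?_⟩
  · have : interior (closure (Subtype.val ⁻¹' E : Set Y)) = ∅ := h
    rw [hd.closure_eq, interior_univ] at this
    exact (univ_nonempty (α := Y)).ne_empty this
  · by_contra hne
    obtain ⟨y, hy⟩ := nonempty_iff_ne_empty.mpr hne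
    refine h fun z => closure_minimal interior_subset isClosed_closure ?_
    exact (isOpen_interior.dense ⟨y, hy⟩) z

/-- Constructibility criterion in a Noetherian space. -/
theorem isConstructible_of_forall_irreducible [NoetherianSpace X] {E : Set X}
    (h : ∀ Y, IsClosed Y → IsIrreducible Y → Y ⊆ closure (E ∩ Y) →
      ∃ U, IsOpen U ∧ (U ∩ Y).Nonempty ∧ U ∩ Y ⊆ E) : IsConstructible E := by
  suffices IsConstructible (E ∩ univ) by simpa using this
  refine noeth_induction_irreducible (fun Z => IsConstructible (E ∩ Z))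
    (by simpa using IsConstructible.empty) (fun A B _ _ hA hB => by
      simpa [inter_union_distrib_left] using hA.union hB)
    (fun Z hZ hirr ih => ?_) isClosed_univ
  by_cases hd : Z ⊆ closure (E ∩ Z)
  · obtain ⟨U, hU, ⟨z, hzU, hzZ⟩, hUE⟩ := h Z hZ hirr hd
    have hlt : Z \ U ⊂ Z := ⟨sdiff_subset, fun hh => (hh hzZ).2 hzU⟩
    have := ((isConstructible_of_isOpen hU).inter (isConstructible_of_isClosed hZ)).union
      (ih _ (hZ.sdiff hU) hlt)
    convert this using 1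
    ext x
    constructor
    · rintro ⟨hxE, hxZ⟩
      by_cases hxU : x ∈ U
      · exact .inl ⟨hxU, hxZ⟩
      · exact .inr ⟨hxE, hxZ, hxU⟩
    · rintro (h' | ⟨h', h'', -⟩)
      · exact ⟨hUE h', h'.2⟩
      · exact ⟨h', h''⟩
  · have hsub : closure (E ∩ Z) ⊆ Z := closure_minimal inter_subset_right hZ
    have := ih _ isClosed_closure ⟨hsub, hd⟩
    convert this using 1
    exact Subset.antisymm (fun x hx => ⟨hx.1, subset_closure hx⟩) fun x hx => ⟨hx.1, hsub hx.2⟩

/-- Minimal closed set through which a point lies in the closure. -/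
theorem exists_irreducible_of_mem_closure [NoetherianSpace X] {E : Set X} {x : X} (hx : x ∈ closure E) :
    ∃ W, IsClosed W ∧ IsIrreducible W ∧ x ∈ W ∧ W ⊆ closure (E ∩ W) := by
  suffices ∀ Z : Set X, IsClosed Z → x ∈ closure (E ∩ Z) →
      ∃ W, IsClosed W ∧ IsIrreducible W ∧ x ∈ W ∧ W ⊆ closure (E ∩ W) from
    this univ isClosed_univ (by simpa using hx)
  intro Z hZ
  refine noeth_induction_irreducible
    (fun Z => x ∈ closure (E ∩ Z) → ∃ W, IsClosed W ∧ IsIrreducible W ∧ x ∈ W ∧ W ⊆ closure (E ∩ W))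
    (by simp) (fun A B _ _ hA hB h => ?_) (fun Z hZ hirr ih h => ?_) hZ
  · rw [inter_union_distrib_left, closure_union] at h
    exact h.elim hA hB
  · by_cases hd : Z ⊆ closure (E ∩ Z)
    · exact ⟨Z, hZ, hirr, closure_minimal inter_subset_right hZ h, hd⟩
    · have hsub : closure (E ∩ Z) ⊆ Z := closure_minimal inter_subset_right hZ
      refine ih _ isClosed_closure ⟨hsub, hd⟩ (closure_mono ?_ h)
      exact fun y hy => ⟨hy.1, subset_closure hy⟩

theorem mem_nhds_of_forall_irreducible [NoetherianSpace X] {E : Set X} (hE : IsConstructible E) {x : X}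
    (h : ∀ Y, IsClosed Y → IsIrreducible Y → x ∈ Y → Y ⊆ closure (E ∩ Y)) : E ∈ 𝓝 x := by
  by_contra hne
  obtain ⟨W, hW, hWi, hxW, hd⟩ := exists_irreducible_of_mem_closure (E := Eᶜ) (x := x)
    (by rwa [closure_compl, mem_compl_iff, mem_interior_iff_mem_nhds])
  obtain ⟨U, hU, hUne, hUE⟩ := IsConstructible.exists_isOpen_inter_subset hE hWi (h W hW hWi hxW)
  obtain ⟨V, hV, hVne, hVE⟩ :=
    IsConstructible.exists_isOpen_inter_subset (isConstructible_compl.mpr hE) hWi hd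
  obtain ⟨z, hzW, hzU, hzV⟩ := hWi.isPreirreducible U V hU hV (by rwa [inter_comm]) (by rwa [inter_comm])
  exact hVE ⟨hzV, hzW⟩ (hUE ⟨hzU, hzW⟩)

theorem isClosed_of_stableUnderSpecialization [NoetherianSpace X] [QuasiSober X] {E : Set X}
    (hE : IsConstructible E) (hs : StableUnderSpecialization E) : IsClosed E := by
  refine isClosed_of_closure_subset fun x hx => ?_
  obtain ⟨W, hW, hWi, hxW, hd⟩ := exists_irreducible_of_mem_closure hx
  obtain ⟨U, hU, hne, hsub⟩ := IsConstructible.exists_isOpen_inter_subset hE hWi hd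
  have hg := hWi.isGenericPoint_genericPoint hW
  refine hs (hg.specializes hxW) (hsub ⟨(hg.mem_open_set_iff hU).mpr (by rwa [inter_comm]), hg.mem⟩)

theorem isOpen_of_stableUnderGeneralization [NoetherianSpace X] [QuasiSober X] {E : Set X}
    (hE : IsConstructible E) (hs : StableUnderGeneralization E) : IsOpen E :=
  isClosed_compl_iff.mp (isClosed_of_stableUnderSpecialization (isConstructible_compl.mpr hE)
    (stableUnderSpecialization_compl_iff.mpr hs))

/-- Directed families of constructible sets covering a Noetherian space. -/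
theorem exists_eq_univ_of_directed [NoetherianSpace X] {ι : Type*} [Preorder ι] [IsDirected ι (· ≤ ·)]
    [Nonempty ι] (E : ι → Set X) (hmono : Monotone E) (hE : ∀ a, IsConstructible (E a))
    (hirr : ∀ Y : Set X, IsClosed Y → IsIrreducible Y → ∃ a, Y ⊆ closure (E a ∩ Y)) :
    ∃ a, E a = univ := by
  suffices ∃ a, univ ⊆ E a from this.imp fun a ha => univ_subset_iff.mp ha
  refine noeth_induction_irreducible (fun Z => ∃ a, Z ⊆ E a) ⟨Classical.arbitrary ι, empty_subset _⟩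
    ?_ (fun Z hZ hZi ih => ?_) isClosed_univ
  · rintro A B - - ⟨a, ha⟩ ⟨b, hb⟩
    obtain ⟨c, hac, hbc⟩ := directed_of (· ≤ ·) a b
    exact ⟨c, union_subset (ha.trans (hmono hac)) (hb.trans (hmono hbc))⟩
  · obtain ⟨a, ha⟩ := hirr Z hZ hZi
    obtain ⟨U, hU, ⟨z, hzU, hzZ⟩, hsub⟩ := IsConstructible.exists_isOpen_inter_subset (hE a) hZi ha
    obtain ⟨b, hb⟩ := ih _ (hZ.sdiff hU) ⟨sdiff_subset, fun hh => (hh hzZ).2 hzU⟩
    obtain ⟨c, hac, hbc⟩ := directed_of (· ≤ ·) a b
    refine ⟨c, fun x hx => ?_⟩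
    by_cases hxU : x ∈ U
    · exact hmono hac (hsub ⟨hxU, hx⟩)
    · exact hmono hbc (hb ⟨hx, hxU⟩)

theorem exists_dense_of_generic_mem {Y E : Set X} [QuasiSober X] (hY : IsIrreducible Y) (hYc : IsClosed Y)
    (h : hY.genericPoint ∈ E) : Y ⊆ closure (E ∩ Y) := by
  have hg := hY.isGenericPoint_genericPoint hYc
  exact hg.def.symm.le.trans (closure_mono (singleton_subset_iff.mpr ⟨h, hg.mem⟩))

theorem finite_range_of_dense_const [NoetherianSpace X] {T : Type*} (h : X → T)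
    (hY : ∀ Y : Set X, IsClosed Y → IsIrreducible Y →
      ∃ U : Set X, IsOpen U ∧ (U ∩ Y).Nonempty ∧ ∀ a ∈ U ∩ Y, ∀ b ∈ U ∩ Y, h a = h b) :
    (range h).Finite := by
  rw [← image_univ]
  refine noeth_induction_irreducible (fun Z => (h '' Z).Finite) (by simp)
    (fun A B _ _ hA hB => by rw [image_union]; exact hA.union hB) (fun Z hZ hZi ih => ?_) isClosed_univ
  obtain ⟨U, hU, ⟨z, hz⟩, hc⟩ := hY Z hZ hZi
  refine ((ih _ (hZ.sdiff hU) ⟨sdiff_subset, fun hh => (hh hz.2).2 hz.1⟩).insert (h z)).subset ?_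
  rintro _ ⟨x, hx, rfl⟩
  by_cases hxU : x ∈ U
  · exact .inl (hc x ⟨hxU, hx⟩ z hz)
  · exact .inr ⟨x, ⟨hx, hxU⟩, rfl⟩

/-- The stratification by membership in a finite family of open sets. -/
theorem exists_stratification_of_finite_opens (m : ℕ) (R : Fin m → Set X) (hR : ∀ i, IsOpen (R i)) :
    let S : Finset (Fin m) → Set X := fun s => {x | ∀ i, x ∈ R i ↔ i ∈ s}
    (∀ s, IsLocallyClosed (S s)) ∧ (⋃ s, S s = univ) ∧ (∀ s t, s ≠ t → Disjoint (S s) (S t)) ∧
      (∀ t, closure (S t) ⊆ ⋃ s ∈ Iic t, S s) ∧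
      ∀ s, (∀ i, IsRetrocompact (R i)) → IsConstructible (S s) := by
  classical
  intro S
  have hS : ∀ s, S s = (⋂ i ∈ s, R i) ∩ ⋂ i ∈ sᶜ, (R i)ᶜ := by
    intro s; ext x
    simp only [S, mem_ofPred_eq, mem_inter_iff, mem_iInter, Finset.mem_compl, mem_compl_iff]
    exact ⟨fun h => ⟨fun i hi => (h i).mpr hi, fun i hi hx => hi ((h i).mp hx)⟩,
      fun h i => ⟨fun hx => by_contra fun hi => h.2 i hi hx, h.1 i⟩⟩
  have hex : ∀ x : X, x ∈ S (Finset.univ.filter fun i => x ∈ R i) := by simp [S]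
  refine ⟨fun s => ?_, eq_univ_of_forall fun x => mem_iUnion.mpr ⟨_, hex x⟩, fun s t hst => ?_,
    fun t x hx => ?_, fun s hret => ?_⟩
  · rw [hS]
    exact (isOpen_biInter_finset fun i _ => hR i).isLocallyClosed.inter
      (isClosed_biInter fun i _ => (hR i).isClosed_compl).isLocallyClosed
  · rw [Set.disjoint_left]
    exact fun x hxs hxt => hst (Finset.ext fun i => (hxs i).symm.trans (hxt i))
  · refine mem_biUnion (x := Finset.univ.filter fun i => x ∈ R i) (fun i hi => ?_) (hex x)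
    obtain ⟨z, hz, hz'⟩ := mem_closure_iff.mp hx (R i) (hR i) (Finset.mem_filter.mp hi).2
    exact (hz' i).mp hz
  · rw [hS]
    exact (IsConstructible.biInter s.finite_toSet fun i _ => (hret i).isConstructible (hR i)).inter
      (IsConstructible.biInter (Finset.finite_toSet _) fun i _ =>
        isConstructible_compl.mpr ((hret i).isConstructible (hR i)))

/-- A good stratification of a closed subset refining finitely many closed subsets. -/
theorem exists_good_stratification [NoetherianSpace X] {Z : Set X} (hZ : IsClosed Z) :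
    ∀ 𝒞 : Finset (Set X), (∀ C ∈ 𝒞, IsClosed C) → ∃ 𝒮 : Finset (Set X),
      (∀ S ∈ 𝒮, IsLocallyClosed S ∧ S ⊆ Z) ∧ Z ⊆ ⋃ S ∈ 𝒮, S ∧
      (∀ S ∈ 𝒮, ∀ T ∈ 𝒮, S ≠ T → Disjoint S T) ∧
      (∀ S ∈ 𝒮, ∀ T ∈ 𝒮, (S ∩ closure T).Nonempty → S ⊆ closure T) ∧
      (∀ S ∈ 𝒮, ∀ C ∈ 𝒞, (S ∩ C).Nonempty → S ⊆ C) := by
  classical
  refine noeth_induction (fun Z => ∀ 𝒞 : Finset (Set X), (∀ C ∈ 𝒞, IsClosed C) → ∃ 𝒮 : Finset (Set X),
      (∀ S ∈ 𝒮, IsLocallyClosed S ∧ S ⊆ Z) ∧ Z ⊆ ⋃ S ∈ 𝒮, S ∧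
      (∀ S ∈ 𝒮, ∀ T ∈ 𝒮, S ≠ T → Disjoint S T) ∧
      (∀ S ∈ 𝒮, ∀ T ∈ 𝒮, (S ∩ closure T).Nonempty → S ⊆ closure T) ∧
      (∀ S ∈ 𝒮, ∀ C ∈ 𝒞, (S ∩ C).Nonempty → S ⊆ C)) (fun Z hZ ih 𝒞 h𝒞 => ?_) hZ
  rcases Z.eq_empty_or_nonempty with rfl | ⟨z₀, hz₀⟩
  · exact ⟨∅, by simp, empty_subset _, by simp, by simp, by simp⟩
  obtain ⟨F, hFf, hFc, hFi, hFZ⟩ := NoetherianSpace.exists_finite_set_isClosed_irreducible hZ
  obtain ⟨G, hGF, hGmin⟩ : ∃ G ⊆ hFf.toFinset, Minimal (fun G : Finset (Set X) => Z ⊆ ⋃₀ (G : Set (Set X))) G :=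
    exists_minimal_le_of_wellFoundedLT (fun G : Finset (Set X) => Z ⊆ ⋃₀ (G : Set (Set X))) hFf.toFinset
      (by simp [hFZ])
  obtain ⟨Y, hY, -⟩ := mem_sUnion.mp (hGmin.1 hz₀)
  have hYF : Y ∈ F := hFf.mem_toFinset.mp (hGF hY)
  have hYZ : Y ⊆ Z := hFZ ▸ subset_sUnion_of_mem hYF
  have hnot : ¬ Z ⊆ ⋃₀ ((G.erase Y : Finset (Set X)) : Set (Set X)) := fun h =>
    Finset.notMem_erase Y G ((hGmin.2 h (G.erase_subset Y)) hY)
  have hU0 : IsOpen (⋃₀ ((G.erase Y : Finset (Set X)) : Set (Set X)))ᶜ := by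
    refine isOpen_compl_iff.mpr ?_
    rw [sUnion_eq_biUnion]
    exact (G.erase Y).finite_toSet.isClosed_biUnion fun C hC =>
      hFc C (hFf.mem_toFinset.mp (hGF (G.erase_subset Y hC)))
  obtain ⟨w, hwZ, hw⟩ := not_subset.mp hnot
  have hZY : ∀ x ∈ Z, x ∈ (⋃₀ ((G.erase Y : Finset (Set X)) : Set (Set X)))ᶜ → x ∈ Y := by
    intro x hx hx'
    obtain ⟨C, hC, hxC⟩ := mem_sUnion.mp (hGmin.1 hx)
    by_contra hxY
    exact hx' (mem_sUnion.mpr ⟨C, Finset.mem_erase.mpr ⟨fun h => hxY (h ▸ hxC), hC⟩, hxC⟩)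
  obtain ⟨U, hU, hUne, hUY, hUC⟩ : ∃ U, IsOpen U ∧ (U ∩ Y).Nonempty ∧ U ∩ Z ⊆ Y ∧
      ∀ C ∈ 𝒞, Y ⊆ C ∨ Disjoint U C := by
    refine ⟨(⋃₀ ((G.erase Y : Finset (Set X)) : Set (Set X)))ᶜ ∩ ⋂ C ∈ 𝒞.filter (fun C => ¬ Y ⊆ C), Cᶜ,
      hU0.inter (isOpen_biInter_finset fun C hC => (h𝒞 C (Finset.mem_filter.mp hC).1).isOpen_compl),
      ?_, fun x hx => hZY x hx.2 hx.1.1, fun C hC => ?_⟩
    · have := (hFi Y hYF).isPreirreducible
      have key : ∀ s : Finset (Set X), (∀ C ∈ s, IsClosed C ∧ ¬ Y ⊆ C) →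
          (Y ∩ ((⋃₀ ((G.erase Y : Finset (Set X)) : Set (Set X)))ᶜ ∩ ⋂ C ∈ s, Cᶜ)).Nonempty := by
        intro s
        induction s using Finset.induction_on with
        | empty => exact fun _ => ⟨w, hZY w hwZ hw, hw, by simp⟩
        | insert C s _ ih' =>
          intro hs
          obtain ⟨y, hy, hy'⟩ := not_subset.mp (hs C (Finset.mem_insert_self C s)).2
          obtain ⟨v, hvY, hv1, hv2⟩ := this Cᶜ _ (hs C (Finset.mem_insert_self C s)).1.isOpen_compl
            (hU0.inter (isOpen_biInter_finset fun D hD => (hs D (Finset.mem_insert_of_mem hD)).1.isOpen_compl))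
            ⟨y, hy, hy'⟩ (ih' fun D hD => hs D (Finset.mem_insert_of_mem hD))
          exact ⟨v, hvY, hv2.1, by rw [Finset.set_biInter_insert]; exact ⟨hv1, hv2.2⟩⟩
      rw [inter_comm]
      exact key _ fun C hC => ⟨h𝒞 C (Finset.mem_filter.mp hC).1, (Finset.mem_filter.mp hC).2⟩
    · by_cases h : Y ⊆ C
      · exact .inl h
      · refine .inr (disjoint_compl_left.mono_left ?_)
        exact inter_subset_right.trans (iInter₂_subset (i := C) (Finset.mem_filter.mpr ⟨hC, h⟩))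
  obtain ⟨y₁, hy₁⟩ := hUne
  obtain ⟨𝒮, h1, h2, h3, h4, h5⟩ := ih (Z \ U) (hZ.sdiff hU)
    ⟨sdiff_subset, fun h => (h (hYZ hy₁.2)).2 hy₁.1⟩ (insert Y 𝒞)
    (by simpa using ⟨hFc Y hYF, h𝒞⟩)
  have hdis : ∀ S ∈ 𝒮, Disjoint (U ∩ Z) S := fun S hS =>
    Set.disjoint_left.mpr fun x hx hxS => ((h1 S hS).2 hxS).2 hx.1
  have hYcl : closure (U ∩ Z) = Y :=
    Subset.antisymm (closure_minimal hUY (hFc Y hYF))
      ((subset_closure_inter_of_isPreirreducible_of_isOpen (hFi Y hYF).isPreirreducible hU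
        ⟨y₁, hy₁.2, hy₁.1⟩).trans (closure_mono fun x hx => ⟨hx.2, hYZ hx.1⟩))
  refine ⟨insert (U ∩ Z) 𝒮, ?_, ?_, ?_, ?_, ?_⟩
  · simp only [Finset.forall_mem_insert]
    exact ⟨⟨hU.isLocallyClosed.inter hZ.isLocallyClosed, inter_subset_right⟩,
      fun S hS => ⟨(h1 S hS).1, (h1 S hS).2.trans sdiff_subset⟩⟩
  · intro x hx
    rw [Finset.set_biUnion_insert]
    by_cases hxU : x ∈ U
    · exact .inl ⟨hxU, hx⟩
    · exact .inr (h2 ⟨hx, hxU⟩)
  · simp only [Finset.forall_mem_insert]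
    exact ⟨⟨fun h => absurd rfl h, fun T hT _ => hdis T hT⟩,
      fun S hS => ⟨fun _ => (hdis S hS).symm, fun T hT => h3 S hS T hT⟩⟩
  · simp only [Finset.forall_mem_insert]
    refine ⟨⟨fun _ => subset_closure, fun T hT h => ?_⟩, fun S hS => ⟨fun h => ?_, fun T hT => h4 S hS T hT⟩⟩
    · obtain ⟨x, hx, hx'⟩ := h
      exact absurd hx.1 ((closure_minimal (h1 T hT).2 (hZ.sdiff hU)) hx').2
    · rw [hYcl] at h ⊢
      exact h5 S hS Y (Finset.mem_insert_self _ _) h
  · simp only [Finset.forall_mem_insert]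
    refine ⟨fun C hC h => ?_, fun S hS C hC => h5 S hS C (Finset.mem_insert_of_mem hC)⟩
    rcases hUC C hC with hYC | hd
    · exact hUY.trans hYC
    · obtain ⟨x, hx, hxC⟩ := h
      exact (Set.disjoint_left.mp hd hx.1 hxC).elim

/-- Traces of open retrocompact sets on a retrocompact set. -/
theorem exists_compactOpen_trace [PrespectralSpace X] {E : Set X} {V : Set E} (hV : IsOpen V) (hVc : IsCompact V) :
    ∃ W : Set X, IsOpen W ∧ IsCompact W ∧ V = Subtype.val ⁻¹' W := by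
  obtain ⟨O, hO, rfl⟩ := isOpen_induced_iff.mp hV
  obtain ⟨W, hWc, hWo, h1, h2⟩ := PrespectralSpace.exists_isCompact_and_isOpen_between
    (hVc.image continuous_subtype_val) hO (by simp)
  exact ⟨W, hWo, hWc, Subset.antisymm (fun x hx => h1 ⟨x, hx, rfl⟩) fun x hx => h2 hx⟩

theorem isConstructible_preimage_inclusion [PrespectralSpace X] {P E : Set X} (hPE : P ⊆ E)
    (hP : IsRetrocompact P) (hE : IsRetrocompact E) {F : Set E} (hF : IsConstructible F) :
    IsConstructible (inclusion hPE ⁻¹' F) := by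
  refine hF.preimage (continuous_inclusion hPE) fun O hOo hO V hV hVo => ?_
  obtain ⟨W, hWo, hWc, rfl⟩ := exists_compactOpen_trace hVo hV
  have h1 : IsCompact (Subtype.val ⁻¹' W : Set E) := by
    rw [Subtype.isCompact_iff, Subtype.image_preimage_coe]
    exact hE hWc hWo
  obtain ⟨K, hKo, hKc, hK⟩ := exists_compactOpen_trace (hOo.inter (hWo.preimage continuous_subtype_val))
    (hO h1 (hWo.preimage continuous_subtype_val))
  have : inclusion hPE ⁻¹' O ∩ Subtype.val ⁻¹' W = Subtype.val ⁻¹' K := by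
    ext x
    exact Set.ext_iff.mp hK (inclusion hPE x)
  rw [this, Subtype.isCompact_iff, Subtype.image_preimage_coe]
  exact hP hKc hKo

theorem isConstructible_preimage_val [PrespectralSpace X] {T E : Set X} (hT : IsRetrocompact T)
    (hE : IsConstructible E) : IsConstructible ((↑) ⁻¹' E : Set T) := by
  refine hE.preimage continuous_subtype_val fun O hOo hO V hV hVo => ?_
  obtain ⟨W, hWo, hWc, rfl⟩ := exists_compactOpen_trace hVo hV
  rw [← preimage_inter, Subtype.isCompact_iff, Subtype.image_preimage_coe]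
  exact hT (hO hWc hWo) (hOo.inter hWo)

theorem isConstructible_image_val [PrespectralSpace X] {E : Set X} (hE : IsConstructible E)
    {F : Set E} (hF : IsConstructible F) : IsConstructible ((↑) '' F : Set X) := by
  classical
  obtain ⟨t, ht, hEt⟩ := exists_finset_sdiff_of_isConstructible hE
  have key : ∀ U V : Set X, IsOpen U → IsRetrocompact U → IsOpen V → IsRetrocompact V →
      (h : U \ V ⊆ E) → IsConstructible (((↑) '' F : Set X) ∩ (U \ V)) := by
    intro U V hU hUr hV hVr h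
    have hP : IsRetrocompact (U \ V) := isRetrocompact_of_isConstructible
      ((hUr.isConstructible hU).sdiff (hVr.isConstructible hV))
    have h1 := isConstructible_preimage_inclusion h hP (isRetrocompact_of_isConstructible hE) hF
    let g : (U \ V : Set X) → U := inclusion sdiff_subset
    have hg : IsClosedEmbedding g := ⟨IsEmbedding.inclusion _, by
      have : range g = (Subtype.val ⁻¹' V : Set U)ᶜ := by
        ext x; simp [g]
      rw [this]; exact (hV.preimage continuous_subtype_val).isClosed_compl⟩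
    have hgr : IsRetrocompact (range g)ᶜ := by
      have : (range g)ᶜ = (Subtype.val ⁻¹' V : Set U) := by
        ext x; simp [g]
      rw [this]
      exact hVr.preimage_of_isOpenEmbedding hU.isOpenEmbedding_subtypeVal
    have h2 := (h1.image_of_isClosedEmbedding hg hgr).image_of_isOpenEmbedding
      hU.isOpenEmbedding_subtypeVal (by simpa using hUr)
    convert h2 using 1
    ext x
    constructor
    · rintro ⟨⟨e, he, rfl⟩, hx⟩
      exact ⟨⟨e, hx.1⟩, ⟨⟨e, hx⟩, he, rfl⟩, rfl⟩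
    · rintro ⟨_, ⟨y, hy, rfl⟩, rfl⟩
      exact ⟨⟨_, hy, rfl⟩, y.2⟩
  have hEq : ((↑) '' F : Set X) = ⋃ p ∈ t, ((↑) '' F : Set X) ∩ (p.1 \ p.2) := by
    rw [← inter_iUnion₂, ← hEt, inter_eq_left.mpr (by simp)]
  rw [hEq]
  exact IsConstructible.biUnion t.finite_toSet fun p hp =>
    key p.1 p.2 (ht p hp).1.1 (ht p hp).1.2 (ht p hp).2.1 (ht p hp).2.2
      (hEt ▸ subset_biUnion_of_mem (u := fun p : Set X × Set X => p.1 \ p.2) hp)

end Groth.Agent.H28Top
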