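import Mathlib.Topology.KrullDimension
import Mathlib.Topology.NoetherianSpace
import Mathlib.Topology.LocallyFinite
import Groth.Prelude.Def_Flat

/-! Basic properties of Krull dimension and local dimension of topological spaces. -/

open Set Topology TopologicalSpace Order

set_option linter.style.haveILetI false

namespace Groth.Agent.H28Top

universe u

variable {X : Type u} [TopologicalSpace X]

theorem chain_le_dim (s : LTSeries (IrreducibleCloseds X)) (Y : Set X)
    (hpre : ∀ i, IsPreirreducible ((s i : Set X) ∩ Y))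
    (hd : ∀ i, (s i : Set X) ⊆ closure ((s i : Set X) ∩ Y)) :
    ((s.length : ℕ∞) : WithBot ℕ∞) ≤ topologicalKrullDim Y := by
  have hne : ∀ i, ((s i : Set X) ∩ Y).Nonempty := fun i => by
    rw [← closure_nonempty_iff]
    exact (s i).isIrreducible.nonempty.mono (hd i)
  have hirr : ∀ i, IsIrreducible (Subtype.val ⁻¹' (s i : Set X) : Set Y) := by
    intro i
    refine ⟨by obtain ⟨x, hx, hxY⟩ := hne i; exact ⟨⟨x, hxY⟩, hx⟩, ?_⟩
    rintro _ _ ⟨u, hu, rfl⟩ ⟨v, hv, rfl⟩ ⟨a, ha, hau⟩ ⟨b, hb, hbv⟩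
    obtain ⟨z, ⟨hz, hzY⟩, hzu, hzv⟩ := hpre i u v hu hv ⟨a, ⟨ha, a.2⟩, hau⟩ ⟨b, ⟨hb, b.2⟩, hbv⟩
    exact ⟨⟨z, hzY⟩, hz, hzu, hzv⟩
  let s' : LTSeries (IrreducibleCloseds Y) :=
    { length := s.length
      toFun := fun i => ⟨_, hirr i, (s i).isClosed.preimage continuous_subtype_val⟩
      step := fun i => by
        have h := s.step i
        refine ⟨fun x hx => le_of_lt (a := s i.castSucc) h hx, fun hle => ?_⟩
        refine not_le_of_gt (a := s i.castSucc) h ?_
        intro x hx
        refine closure_minimal ?_ (s i.castSucc).isClosed (hd i.succ hx)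
        exact fun y hy => hle (show (⟨y, hy.2⟩ : Y) ∈ Subtype.val ⁻¹' (s i.succ : Set X) from hy.1) }
  exact LTSeries.length_le_krullDim s'

theorem chain_le_dim_of_subset (s : LTSeries (IrreducibleCloseds X)) {Y : Set X}
    (h : (s.last : Set X) ⊆ Y) : ((s.length : ℕ∞) : WithBot ℕ∞) ≤ topologicalKrullDim Y := by
  have hi : ∀ i, (s i : Set X) ∩ Y = s i := fun i =>
    inter_eq_left.mpr ((show (s i : Set X) ⊆ s.last from s.monotone (Fin.le_last i)).trans h)
  exact chain_le_dim s Y (fun i => (hi i).symm ▸ (s i).isIrreducible.isPreirreducible)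
    fun i => (hi i).symm ▸ subset_closure

theorem chain_le_dim_of_isOpen (s : LTSeries (IrreducibleCloseds X)) {U : Set X} (hU : IsOpen U)
    (h : ((s.head : Set X) ∩ U).Nonempty) : ((s.length : ℕ∞) : WithBot ℕ∞) ≤ topologicalKrullDim U := by
  have hi : ∀ i, ((s i : Set X) ∩ U).Nonempty := fun i =>
    h.mono (inter_subset_inter_left _ (show (s.head : Set X) ⊆ s i from s.monotone (Fin.zero_le i)))
  refine chain_le_dim s U (fun i => ?_) fun i =>
    subset_closure_inter_of_isPreirreducible_of_isOpen (s i).isIrreducible.isPreirreducible hU (hi i)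
  rintro u v hu hv ⟨a, ⟨ha, haU⟩, hau⟩ ⟨b, ⟨hb, hbU⟩, hbv⟩
  obtain ⟨z, hz, ⟨hzu, hzU⟩, hzv, -⟩ := (s i).isIrreducible.isPreirreducible (u ∩ U) (v ∩ U)
    (hu.inter hU) (hv.inter hU) ⟨a, ha, hau, haU⟩ ⟨b, hb, hbv, hbU⟩
  exact ⟨z, ⟨hz, hzU⟩, hzu, hzv⟩

theorem dim_le_of_chains {d : WithBot ℕ∞}
    (h : ∀ s : LTSeries (IrreducibleCloseds X), ((s.length : ℕ∞) : WithBot ℕ∞) ≤ d) :
    topologicalKrullDim X ≤ d :=
  iSup_le h

theorem dim_eq_iSup_of_subset {ι : Sort*} (Y : ι → Set X)
    (h : ∀ Z : IrreducibleCloseds X, ∃ i, (Z : Set X) ⊆ Y i) :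
    topologicalKrullDim X = ⨆ i, topologicalKrullDim (Y i) := by
  refine le_antisymm (dim_le_of_chains fun s => ?_)
    (iSup_le fun i => topologicalKrullDim_subspace_le X (Y i))
  obtain ⟨i, hi⟩ := h s.last
  exact le_iSup_of_le i (chain_le_dim_of_subset s hi)

theorem dim_eq_iSup_of_finite_closed_cover {ι : Type*} [Finite ι] (Y : ι → Set X)
    (hY : ∀ i, IsClosed (Y i)) (hcov : ⋃ i, Y i = univ) :
    topologicalKrullDim X = ⨆ i, topologicalKrullDim (Y i) := by
  classical
  haveI := Fintype.ofFinite ι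
  refine dim_eq_iSup_of_subset Y fun Z => ?_
  obtain ⟨C, hC, hZC⟩ := isIrreducible_iff_sUnion_isClosed.mp Z.isIrreducible (Finset.univ.image Y)
    (by simpa using hY) (by simp [hcov])
  obtain ⟨i, -, rfl⟩ := Finset.mem_image.mp hC
  exact ⟨i, hZC⟩

theorem localDim_le (x : X) {U : Opens X} (hx : x ∈ U) :
    FlatMor.localDim X x ≤ topologicalKrullDim (U : Set X) :=
  iInf_le_of_le ⟨U, hx⟩ le_rfl

theorem localDim_le_dim (x : X) : FlatMor.localDim X x ≤ topologicalKrullDim X :=
  (localDim_le x (U := ⊤) trivial).trans (topologicalKrullDim_subspace_le X _)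

theorem chain_le_localDim (s : LTSeries (IrreducibleCloseds X)) {x : X} (hx : x ∈ (s.head : Set X)) :
    ((s.length : ℕ∞) : WithBot ℕ∞) ≤ FlatMor.localDim X x :=
  le_iInf fun U => chain_le_dim_of_isOpen s U.1.isOpen ⟨x, hx, U.2⟩

theorem exists_localDim_eq (x : X) :
    ∃ U : Opens X, x ∈ U ∧ topologicalKrullDim (U : Set X) = FlatMor.localDim X x := by
  haveI : Nonempty {U : Opens X // x ∈ U} := ⟨⟨⊤, trivial⟩⟩
  obtain ⟨U, hU⟩ := ciInf_mem fun U : {U : Opens X // x ∈ U} => topologicalKrullDim (U.1 : Set X)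
  exact ⟨U.1, U.2, hU⟩

end Groth.Agent.H28Top

namespace Groth.Agent.H28Top

variable {X : Type*} [TopologicalSpace X]

theorem isClosed_singleton_of_dim_le_zero [CompactSpace X] [T0Space X]
    (h : topologicalKrullDim X ≤ 0) (x : X) : IsClosed ({x} : Set X) := by
  obtain ⟨z, hz, hzc⟩ := IsClosed.exists_closed_singleton (isClosed_closure (s := ({x} : Set X)))
    (singleton_nonempty x).closure
  by_contra hx
  let A : IrreducibleCloseds X := ⟨{z}, isIrreducible_singleton, hzc⟩
  let B : IrreducibleCloseds X := ⟨closure {x}, isIrreducible_singleton.closure, isClosed_closure⟩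
  have hAB : A < B := by
    refine ⟨singleton_subset_iff.mpr hz, fun hle => hx ?_⟩
    have : x = z := hle (subset_closure rfl)
    exact this ▸ hzc
  have h1 : (1 : WithBot ℕ∞) ≤ topologicalKrullDim X := Order.one_le_krullDim_iff.mpr ⟨A, B, hAB⟩
  exact absurd (h1.trans h) (by simp)

theorem finite_discrete_of_dim_le_zero [NoetherianSpace X] [T0Space X]
    (h : topologicalKrullDim X ≤ 0) : Finite X ∧ DiscreteTopology X := by
  haveI : T1Space X := ⟨isClosed_singleton_of_dim_le_zero h⟩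
  have hc : ∀ Z ∈ irreducibleComponents X, ∃ z, Z = {z} := by
    intro Z hZ
    obtain ⟨z, hz⟩ := hZ.1.nonempty
    refine ⟨z, Subset.antisymm (fun w hw => ?_) (singleton_subset_iff.mpr hz)⟩
    by_contra hwz
    let A : IrreducibleCloseds X := ⟨{z}, isIrreducible_singleton, isClosed_singleton⟩
    let B : IrreducibleCloseds X := ⟨Z, hZ.1, isClosed_of_mem_irreducibleComponents Z hZ⟩
    have hAB : A < B := ⟨singleton_subset_iff.mpr hz, fun hle => hwz (hle hw)⟩
    exact absurd ((Order.one_le_krullDim_iff.mpr ⟨A, B, hAB⟩).trans h) (by simp)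
  haveI : Finite X := by
    refine finite_univ_iff.mp ((NoetherianSpace.finite_irreducibleComponents.biUnion
      (t := fun Z : Set X => Z) fun Z hZ => ?_).subset fun x _ =>
      mem_biUnion (irreducibleComponent_mem_irreducibleComponents x) mem_irreducibleComponent)
    obtain ⟨z, rfl⟩ := hc Z hZ
    exact finite_singleton z
  exact ⟨this, inferInstance⟩

end Groth.Agent.H28Top
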