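import Mathlib.Topology.Spectral.ConstructibleTopology
import Mathlib.Topology.Spectral.Hom
import Mathlib.Topology.Constructible
import Mathlib.Topology.Connected.TotallyDisconnected
import Mathlib.Topology.Maps.Proper.Basic

/-! Basic facts on the constructible topology of spectral spaces. -/

open Set Topology

set_option linter.style.haveILetI false

namespace Groth.Agent.H28Top

universe u v w

variable {X : Type u} [TopologicalSpace X] {Y : Type v} [TopologicalSpace Y]

theorem isOpen_constr_of_compactOpen {U : Set X} (ho : IsOpen U) (hc : IsCompact U) :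
    IsOpen[constructibleTopology X] U :=
  hc.isOpen_constructibleTopology_of_isOpen ho

theorem isClosed_constr_of_compactOpen {U : Set X} (ho : IsOpen U) (hc : IsCompact U) :
    IsClosed[constructibleTopology X] U := by
  rw [← @isOpen_compl_iff X _ (constructibleTopology X)]
  exact IsCompact.isOpen_constructibleTopology_of_isClosed (by rwa [compl_compl]) ho.isClosed_compl

theorem isOpen_constr_of_isOpen [PrespectralSpace X] {U : Set X} (hU : IsOpen U) :
    IsOpen[constructibleTopology X] U := by
  rw [@isOpen_iff_forall_mem_open X (constructibleTopology X)]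
  intro x hx
  obtain ⟨V, ⟨hV₁, hV₂⟩, hxV, hVU⟩ :=
    PrespectralSpace.isTopologicalBasis.exists_subset_of_mem_open hx hU
  exact ⟨V, hVU, isOpen_constr_of_compactOpen hV₁ hV₂, hxV⟩

theorem isClosed_constr_of_isClosed [PrespectralSpace X] {F : Set X} (hF : IsClosed F) :
    IsClosed[constructibleTopology X] F := by
  rw [← @isOpen_compl_iff X _ (constructibleTopology X)]
  exact isOpen_constr_of_isOpen hF.isOpen_compl

theorem continuous_id_constr [PrespectralSpace X] :
    Continuous[constructibleTopology X, ‹TopologicalSpace X›] (id : X → X) :=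
  continuous_def.mpr fun _ hU => isOpen_constr_of_isOpen hU

theorem compactSpace_constr (X : Type u) [TopologicalSpace X] [CompactSpace X] [QuasiSober X]
    [PrespectralSpace X] [QuasiSeparatedSpace X] : @CompactSpace X (constructibleTopology X) :=
  @Function.Surjective.compactSpace (WithConstructibleTopology X) X _ (constructibleTopology X) _
    (WithTopology.continuous_ofTopology _) _ (WithTopology.ofTopology_surjective _)

theorem isCompact_of_isClosed_constr [CompactSpace X] [QuasiSober X] [PrespectralSpace X]
    [QuasiSeparatedSpace X] {E : Set X} (hE : IsClosed[constructibleTopology X] E) : IsCompact E := by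
  have h1 : @IsCompact X (constructibleTopology X) E :=
    @IsClosed.isCompact X (constructibleTopology X) E (compactSpace_constr X) hE
  simpa using @IsCompact.image X X (constructibleTopology X) _ E id h1 continuous_id_constr

theorem t2Space_constr (X : Type u) [TopologicalSpace X] [T0Space X] [PrespectralSpace X] :
    @T2Space X (constructibleTopology X) := by
  refine @T2Space.mk X (constructibleTopology X) fun x y hxy => ?_
  obtain ⟨U, hU, hxor⟩ := exists_isOpen_xor_mem hxy
  rcases hxor with ⟨hx, hy⟩ | ⟨hy, hx⟩
  · obtain ⟨V, ⟨hV₁, hV₂⟩, hxV, hVU⟩ :=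
      PrespectralSpace.isTopologicalBasis.exists_subset_of_mem_open hx hU
    exact ⟨V, Vᶜ, isOpen_constr_of_compactOpen hV₁ hV₂,
      (isClosed_constr_of_compactOpen hV₁ hV₂).isOpen_compl, hxV, fun h => hy (hVU h),
      disjoint_compl_right⟩
  · obtain ⟨V, ⟨hV₁, hV₂⟩, hyV, hVU⟩ :=
      PrespectralSpace.isTopologicalBasis.exists_subset_of_mem_open hy hU
    exact ⟨Vᶜ, V, (isClosed_constr_of_compactOpen hV₁ hV₂).isOpen_compl,
      isOpen_constr_of_compactOpen hV₁ hV₂, fun h => hx (hVU h), hyV, disjoint_compl_left⟩

theorem totallySeparatedSpace_constr (X : Type u) [TopologicalSpace X] [T0Space X]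
    [PrespectralSpace X] : @TotallySeparatedSpace X (constructibleTopology X) := by
  letI τ : TopologicalSpace X := ‹TopologicalSpace X›
  rw [@totallySeparatedSpace_iff_exists_isClopen X (constructibleTopology X)]
  intro x y hxy
  obtain ⟨U, hU, hxor⟩ := @exists_isOpen_xor_mem X τ _ x y hxy
  rcases hxor with ⟨hx, hy⟩ | ⟨hy, hx⟩
  · obtain ⟨V, ⟨hV₁, hV₂⟩, hxV, hVU⟩ :=
      (@PrespectralSpace.isTopologicalBasis X τ _).exists_subset_of_mem_open hx hU
    exact ⟨V, ⟨isClosed_constr_of_compactOpen hV₁ hV₂, isOpen_constr_of_compactOpen hV₁ hV₂⟩,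
      hxV, fun h => hy (hVU h)⟩
  · obtain ⟨V, ⟨hV₁, hV₂⟩, hyV, hVU⟩ :=
      (@PrespectralSpace.isTopologicalBasis X τ _).exists_subset_of_mem_open hy hU
    refine ⟨Vᶜ, ⟨?_, ?_⟩, fun h => hx (hVU h), not_not_intro hyV⟩
    · exact @IsOpen.isClosed_compl X (constructibleTopology X) V (isOpen_constr_of_compactOpen hV₁ hV₂)
    · exact @IsClosed.isOpen_compl X (constructibleTopology X) V (isClosed_constr_of_compactOpen hV₁ hV₂)

theorem isClopen_constr_of_isConstructible [CompactSpace X] [QuasiSeparatedSpace X] {E : Set X}
    (hE : IsConstructible E) : @IsClopen X (constructibleTopology X) E := by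
  induction hE using IsConstructible.empty_union_induction with
  | open_retrocompact U ho hr =>
    exact ⟨isClosed_constr_of_compactOpen ho hr.isCompact, isOpen_constr_of_compactOpen ho hr.isCompact⟩
  | union s hs t ht ihs iht => exact @IsClopen.union X (constructibleTopology X) s t ihs iht
  | compl s hs ih => exact @IsClopen.compl X (constructibleTopology X) s ih

theorem isClosed_constr_of_isConstructible [CompactSpace X] [QuasiSeparatedSpace X] {E : Set X}
    (hE : IsConstructible E) : IsClosed[constructibleTopology X] E :=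
  (isClopen_constr_of_isConstructible hE).1

theorem isOpen_constr_of_isConstructible [CompactSpace X] [QuasiSeparatedSpace X] {E : Set X}
    (hE : IsConstructible E) : IsOpen[constructibleTopology X] E :=
  (isClopen_constr_of_isConstructible hE).2

theorem isConstructible_of_mem_subbasis [QuasiSeparatedSpace X] {s : Set X}
    (hs : s ∈ constructibleTopologySubbasis X) : IsConstructible s := by
  rcases hs with ⟨ho, hc⟩ | ⟨hcl, hc⟩
  · exact hc.isConstructible ho
  · exact isConstructible_compl.mp (hc.isConstructible hcl.isOpen_compl)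

theorem isConstructible_iff_isClopen_constr [CompactSpace X] [QuasiSober X] [PrespectralSpace X]
    [QuasiSeparatedSpace X] {E : Set X} :
    IsConstructible E ↔ @IsClopen X (constructibleTopology X) E := by
  refine ⟨isClopen_constr_of_isConstructible, fun h => ?_⟩
  letI τ : TopologicalSpace X := ‹TopologicalSpace X›
  have hb := @TopologicalSpace.isTopologicalBasis_of_subbasis X (constructibleTopology X)
    (constructibleTopologySubbasis X) rfl
  have hc : @IsCompact X (constructibleTopology X) E :=
    @IsClosed.isCompact X (constructibleTopology X) E (compactSpace_constr X) h.1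
  obtain ⟨S, hS, hSE⟩ := @TopologicalSpace.IsTopologicalBasis.open_eq_sUnion X
    (constructibleTopology X) _ hb E h.2
  obtain ⟨T, hTS, hTf, hET⟩ := @IsCompact.elim_finite_subcover_image X (Set X)
    (constructibleTopology X) E S id hc
    (fun s hs => @TopologicalSpace.IsTopologicalBasis.isOpen X (constructibleTopology X) _ _ hb (hS hs))
    (by rw [hSE]; simp [sUnion_eq_biUnion])
  have hEeq : E = ⋃ s ∈ T, id s := by
    refine hET.antisymm ?_
    rw [hSE, sUnion_eq_biUnion]
    exact iUnion₂_subset fun s hs => subset_biUnion_of_mem (u := fun s : Set X => s) (hTS hs)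
  rw [hEeq]
  refine IsConstructible.biUnion hTf fun s hs => ?_
  obtain ⟨f, ⟨hff, hfsub⟩, rfl⟩ := hS (hTS hs)
  exact IsConstructible.sInter hff fun t ht => isConstructible_of_mem_subbasis (hfsub ht)

/-- An element specializing-generalizing criterion: a compact set has all its points covered. -/
theorem exists_specializes_of_mem_closure [SpectralSpace X] {E : Set X}
    (hE : IsClosed[constructibleTopology X] E) {x : X} (hx : x ∈ closure E) : ∃ e ∈ E, e ⤳ x := by
  let ι := {U : Set X // IsOpen U ∧ IsCompact U ∧ x ∈ U}
  by_contra hcon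
  push_neg at hcon
  have hEc : @IsCompact X (constructibleTopology X) E :=
    @IsClosed.isCompact X (constructibleTopology X) E (compactSpace_constr X) hE
  have hempty : E ∩ ⋂ U : ι, (U : Set X) = ∅ := by
    rw [Set.eq_empty_iff_forall_notMem]
    rintro e ⟨he, heU⟩
    refine hcon e he (specializes_iff_forall_open.mpr fun s hs hxs => ?_)
    obtain ⟨V, ⟨hV₁, hV₂⟩, hxV, hVs⟩ :=
      PrespectralSpace.isTopologicalBasis.exists_subset_of_mem_open hxs hs
    exact hVs (mem_iInter.mp heU ⟨V, hV₁, hV₂, hxV⟩)
  obtain ⟨t, ht⟩ := @IsCompact.elim_finite_subfamily_closed X (constructibleTopology X) E ι hEc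
    (fun U => (U : Set X)) (fun U => isClosed_constr_of_compactOpen U.2.1 U.2.2.1) hempty
  have hopen : IsOpen (⋂ U ∈ t, (U : Set X)) := isOpen_biInter_finset fun U _ => U.2.1
  obtain ⟨z, hz, hzE⟩ := mem_closure_iff.mp hx _ hopen (mem_iInter₂.mpr fun U _ => U.2.2.2)
  exact (Set.eq_empty_iff_forall_notMem.mp ht) z ⟨hzE, hz⟩

theorem isClosed_of_isClosed_constr [SpectralSpace X] {E : Set X}
    (hE : IsClosed[constructibleTopology X] E) (hs : StableUnderSpecialization E) : IsClosed E := by
  refine isClosed_of_closure_subset fun x hx => ?_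
  obtain ⟨e, he, hex⟩ := exists_specializes_of_mem_closure hE hx
  exact hs hex he

theorem isOpen_of_isOpen_constr [SpectralSpace X] {E : Set X}
    (hE : IsOpen[constructibleTopology X] E) (hs : StableUnderGeneralization E) : IsOpen E := by
  rw [← isClosed_compl_iff]
  refine isClosed_of_isClosed_constr ?_ (stableUnderSpecialization_compl_iff.mpr hs)
  exact @IsOpen.isClosed_compl X (constructibleTopology X) E hE

/-- The generalizations of a quasi-compact set form an intersection of compact opens. -/
theorem generalization_eq_sInter [CompactSpace X] [QuasiSeparatedSpace X] [PrespectralSpace X]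
    {E : Set X} (hE : IsCompact E) :
    {x | ∃ e ∈ E, x ⤳ e} = ⋂₀ {U : Set X | (IsOpen U ∧ IsCompact U) ∧ E ⊆ U} := by
  ext x
  refine ⟨fun ⟨e, he, hxe⟩ U hU => hxe.mem_open hU.1.1 (hU.2 he), fun hx => ?_⟩
  by_contra hcon
  simp only [mem_setOf_eq, not_exists, not_and] at hcon
  have : ∀ e ∈ E, ∃ U : Set X, (IsOpen U ∧ IsCompact U) ∧ e ∈ U ∧ x ∉ U := by
    intro e he
    obtain ⟨S, hS, heS, hxS⟩ := not_specializes_iff_exists_open.mp (hcon e he)
    obtain ⟨V, hV, heV, hVS⟩ :=
      PrespectralSpace.isTopologicalBasis.exists_subset_of_mem_open heS hS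
    exact ⟨V, hV, heV, fun h => hxS (hVS h)⟩
  choose U hU heU hxU using this
  obtain ⟨t, htf, htc⟩ : ∃ t : Set E, t.Finite ∧ E ⊆ ⋃ e ∈ t, U e.1 e.2 := by
    obtain ⟨t, ht⟩ := hE.elim_finite_subcover (fun e : E => U e.1 e.2) (fun e => (hU _ _).1)
      (fun e he => mem_iUnion.mpr ⟨⟨e, he⟩, heU e he⟩)
    exact ⟨t, t.finite_toSet, by simpa using ht⟩
  have hx' := hx (⋃ e ∈ t, U e.1 e.2)
    ⟨⟨isOpen_biUnion fun e _ => (hU _ _).1, htf.isCompact_biUnion fun e _ => (hU _ _).2⟩, htc⟩
  simp only [mem_iUnion] at hx'
  obtain ⟨e, _, he⟩ := hx'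
  exact hxU _ _ he

theorem isClosed_constr_generalization [SpectralSpace X] {E : Set X} (hE : IsCompact E) :
    IsClosed[constructibleTopology X] {x | ∃ e ∈ E, x ⤳ e} := by
  rw [generalization_eq_sInter hE]
  exact @isClosed_sInter X (constructibleTopology X) _
    fun U hU => isClosed_constr_of_compactOpen hU.1.1 hU.1.2

/-- A subspace closed in the constructible topology of a spectral space is spectral. -/
theorem spectralSpace_of_isClosed_constr [SpectralSpace X] {E : Set X}
    (hE : IsClosed[constructibleTopology X] E) : SpectralSpace E := by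
  have hcpt : ∀ U : Set X, IsOpen U → IsCompact U → IsCompact ((↑) ⁻¹' U : Set E) := by
    intro U ho hc
    rw [Subtype.isCompact_iff, Subtype.image_preimage_coe]
    exact isCompact_of_isClosed_constr
      (@IsClosed.inter X E U (constructibleTopology X) hE (isClosed_constr_of_compactOpen ho hc))
  have hb : TopologicalSpace.IsTopologicalBasis
      (Set.range fun U : {U : Set X // IsOpen U ∧ IsCompact U} => ((↑) ⁻¹' U.1 : Set E)) := by
    have h := (PrespectralSpace.isTopologicalBasis (X := X)).isInducing
      (IsInducing.subtypeVal (t := E))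
    convert h
    ext s
    simp [Set.mem_image]
  haveI : CompactSpace E := isCompact_iff_compactSpace.mp (isCompact_of_isClosed_constr hE)
  haveI : PrespectralSpace E := PrespectralSpace.of_isTopologicalBasis' hb fun U => hcpt _ U.2.1 U.2.2
  haveI : QuasiSeparatedSpace E := QuasiSeparatedSpace.of_isTopologicalBasis hb fun U V => by
    rw [← preimage_inter]
    exact hcpt _ (U.2.1.inter V.2.1) (U.2.2.inter_of_isOpen V.2.2 U.2.1 V.2.1)
  haveI : QuasiSober E := ⟨fun {Z} hZ hZc => by
    have hZ' : IsIrreducible (((↑) : E → X) '' Z) := hZ.image _ continuous_subtype_val.continuousOn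
    obtain ⟨η, hη⟩ := QuasiSober.sober hZ'.closure isClosed_closure
    have hZE : ((↑) : E → X) '' Z ⊆ E ∩ closure (((↑) : E → X) '' Z) :=
      subset_inter (by rintro _ ⟨z, _, rfl⟩; exact z.2) subset_closure
    have h1 : η ∈ closure (E ∩ closure (((↑) : E → X) '' Z)) := closure_mono hZE hη.mem
    obtain ⟨e, ⟨heE, heZ⟩, heη⟩ := exists_specializes_of_mem_closure
      (@IsClosed.inter X _ _ (constructibleTopology X) hE
        (isClosed_constr_of_isClosed isClosed_closure)) h1
    have : e = η := (heη.antisymm (hη.specializes heZ)).eq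
    subst this
    refine ⟨⟨e, heE⟩, ?_⟩
    rw [IsGenericPoint]
    ext z
    rw [closure_subtype, image_singleton, hη.def]
    conv_rhs => rw [← hZc.closure_eq, closure_subtype]⟩
  exact {}

theorem continuous_constr_of_isSpectralMap {f : X → Y} (hf : IsSpectralMap f) :
    Continuous[constructibleTopology X, constructibleTopology Y] f := by
  rw [constructibleTopology, constructibleTopology, continuous_generateFrom_iff]
  rintro s (⟨ho, hc⟩ | ⟨hcl, hc⟩)
  · exact isOpen_constr_of_compactOpen (ho.preimage hf.continuous) (hc.preimage_of_isOpen hf ho)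
  · refine IsCompact.isOpen_constructibleTopology_of_isClosed ?_ (hcl.preimage hf.continuous)
    rw [← preimage_compl]
    exact hc.preimage_of_isOpen hf hcl.isOpen_compl

theorem isSpectralMap_of_continuous_constr [SpectralSpace X] {f : X → Y}
    (hf : Continuous f) (hc : Continuous[constructibleTopology X, constructibleTopology Y] f) :
    IsSpectralMap f :=
  ⟨hf, fun _ ho hs => isCompact_of_isClosed_constr
    (@IsClosed.preimage X Y (constructibleTopology X) (constructibleTopology Y) f hc _
      (isClosed_constr_of_compactOpen ho hs))⟩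

theorem isSpectralMap_of_isTopologicalBasis {f : X → Y} (hf : Continuous f) {ι : Type w}
    {b : ι → Set Y} (hb : TopologicalSpace.IsTopologicalBasis (Set.range b))
    (h : ∀ i, IsCompact (f ⁻¹' b i)) : IsSpectralMap f := by
  refine ⟨hf, fun s ho hs => ?_⟩
  obtain ⟨t, htf, rfl⟩ := eq_finite_iUnion_of_isTopologicalBasis_of_isCompact_open b hb s hs ho
  simp only [preimage_iUnion]
  exact htf.isCompact_biUnion fun i _ => h i

theorem isClosed_constr_range [SpectralSpace X] [SpectralSpace Y] {f : X → Y}
    (hf : IsSpectralMap f) {E : Set X} (hE : IsClosed[constructibleTopology X] E) :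
    IsClosed[constructibleTopology Y] (f '' E) := by
  have h1 : @IsCompact X (constructibleTopology X) E :=
    @IsClosed.isCompact X (constructibleTopology X) E (compactSpace_constr X) hE
  exact @IsCompact.isClosed Y (constructibleTopology Y) (t2Space_constr Y) _
    (@IsCompact.image X Y (constructibleTopology X) (constructibleTopology Y) E f h1
      (continuous_constr_of_isSpectralMap hf))

theorem exists_generalization_of_sober {Z : Set X} (f : X → Y) (hf : Continuous f)
    [QuasiSober Y] (hZ : IsIrreducible Z) :
    ∃ y, (∀ z ∈ Z, y ⤳ f z) ∧ ∀ U, IsOpen U → y ∈ U → (Z ∩ f ⁻¹' U).Nonempty := by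
  obtain ⟨y, hy⟩ := QuasiSober.sober (hZ.image f hf.continuousOn).closure isClosed_closure
  refine ⟨y, fun z hz => hy.specializes (subset_closure (mem_image_of_mem f hz)), fun U hU hyU => ?_⟩
  obtain ⟨_, hw, ⟨z, hz, rfl⟩⟩ := mem_closure_iff.mp hy.mem U hU hyU
  exact ⟨z, hz, hw⟩

instance quasiSober_pi {ι : Type w} {π : ι → Type v} [∀ i, TopologicalSpace (π i)]
    [∀ i, QuasiSober (π i)] : QuasiSober (∀ i, π i) := by
  refine ⟨fun {Z} hZ hZc => ?_⟩
  choose a ha ha' using fun i => exists_generalization_of_sober (fun x : ∀ j, π j => x i)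
    (continuous_apply i) hZ
  have ha2 : a ∈ Z := by
    rw [← hZc.closure_eq, mem_closure_iff]
    intro O hO haO
    obtain ⟨I, U, hU, hIO⟩ := isOpen_pi_iff.mp hO a haO
    suffices ∀ J : Finset ι, J ⊆ I → (Z ∩ (J : Set ι).pi U).Nonempty by
      obtain ⟨z, hz, hz'⟩ := this I subset_rfl
      exact ⟨z, hIO hz', hz⟩
    intro J
    induction J using Finset.cons_induction with
    | empty => intro _; simpa using hZ.nonempty
    | cons i J hi ih =>
      intro hJ
      rw [Finset.cons_subset] at hJ
      have hiI := hU i hJ.1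
      have := hZ.isPreirreducible ((fun x : ∀ j, π j => x i) ⁻¹' U i) ((J : Set ι).pi U)
        (hiI.1.preimage (continuous_apply i))
        (isOpen_set_pi J.finite_toSet fun j hj => (hU j (hJ.2 hj)).1)
        (ha' i _ hiI.1 hiI.2) (ih hJ.2)
      classical simpa [Set.insert_pi, Finset.cons_eq_insert] using this
  refine ⟨a, ?_⟩
  rw [isGenericPoint_iff_specializes]
  exact fun y => ⟨fun h => h.mem_closed hZc ha2, fun hy => specializes_pi.mpr fun i => ha i y hy⟩

theorem isTopologicalBasis_pi_compactOpen {ι : Type w} {π : ι → Type v}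
    [∀ i, TopologicalSpace (π i)] [∀ i, CompactSpace (π i)] [∀ i, PrespectralSpace (π i)] :
    TopologicalSpace.IsTopologicalBasis (Set.range
      fun U : {U : ∀ i, Set (π i) // (∀ i, IsOpen (U i) ∧ IsCompact (U i)) ∧
        {i | U i ≠ univ}.Finite} => (univ : Set ι).pi U.1) := by
  classical
  refine TopologicalSpace.isTopologicalBasis_of_isOpen_of_nhds ?_ ?_
  · rintro _ ⟨⟨U, hU, hUf⟩, rfl⟩
    have : (univ : Set ι).pi U = {i | U i ≠ univ}.pi U := by
      ext x
      exact ⟨fun h i _ => h i (mem_univ i), fun h i _ =>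
        if hi : U i = univ then by simp [hi] else h i hi⟩
    simp only [this]
    exact isOpen_set_pi hUf fun i _ => (hU i).1
  · intro a O haO hO
    obtain ⟨I, V, hV, hIO⟩ := isOpen_pi_iff.mp hO a haO
    have : ∀ i ∈ I, ∃ W : Set (π i), (IsOpen W ∧ IsCompact W) ∧ a i ∈ W ∧ W ⊆ V i := fun i hi =>
      PrespectralSpace.isTopologicalBasis.exists_subset_of_mem_open (hV i hi).2 (hV i hi).1
    choose W hW haW hWV using this
    let U : ∀ i, Set (π i) := fun i => if h : i ∈ I then W i h else univ
    refine ⟨_, ⟨⟨U, fun i => ?_, ?_⟩, rfl⟩, fun i _ => ?_, fun x hx => hIO fun i hi => ?_⟩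
    · simp only [U]; split
      · exact hW i _
      · exact ⟨isOpen_univ, isCompact_univ⟩
    · exact I.finite_toSet.subset fun i hi => by
        by_contra h
        exact hi (dif_neg h)
    · simp only [U]; split
      · exact haW i _
      · trivial
    · have := hx i (mem_univ i)
      simp only [U, dif_pos (Finset.mem_coe.mp hi)] at this
      exact hWV i _ this

instance spectralSpace_pi {ι : Type w} {π : ι → Type v} [∀ i, TopologicalSpace (π i)]
    [∀ i, SpectralSpace (π i)] : SpectralSpace (∀ i, π i) := by
  have hb := isTopologicalBasis_pi_compactOpen (π := π)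
  haveI : PrespectralSpace (∀ i, π i) :=
    .of_isTopologicalBasis' hb fun U => isCompact_univ_pi fun i => (U.2.1 i).2
  haveI : QuasiSeparatedSpace (∀ i, π i) := .of_isTopologicalBasis hb fun U V => by
    rw [← pi_inter_distrib]
    exact isCompact_univ_pi fun i =>
      (U.2.1 i).2.inter_of_isOpen (V.2.1 i).2 (U.2.1 i).1 (V.2.1 i).1
  exact {}

theorem isSpectralMap_apply {ι : Type w} {π : ι → Type v} [∀ i, TopologicalSpace (π i)]
    [∀ i, CompactSpace (π i)] (i : ι) : IsSpectralMap fun x : ∀ j, π j => x i := by
  classical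
  refine ⟨continuous_apply i, fun s _ hs => ?_⟩
  have : (fun x : ∀ j, π j => x i) ⁻¹' s = univ.pi (Function.update (fun _ => univ) i s) := by
    ext x; simp [Function.update_apply, Set.mem_pi]
    constructor
    · intro h j; by_cases hj : j = i
      · subst hj; simp [h]
      · simp [hj]
    · intro h; simpa using h i
  rw [this]
  exact isCompact_univ_pi fun j => by
    by_cases hj : j = i
    · subst hj; simpa
    · simp [hj, isCompact_univ]

theorem spectralSpace_of_finite [Finite X] [T0Space X] [QuasiSober X] : SpectralSpace X := {}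

theorem quasiSober_of_finite [Finite X] : QuasiSober X := by
  refine ⟨fun {Z} hZ hZc => ?_⟩
  obtain ⟨z, hz, hzZ⟩ : ∃ z ∈ Z, Z ⊆ closure {z} := by
    have hf : (Set.toFinite Z).toFinset.image (fun z => closure {z}) =
      (Set.toFinite Z).toFinset.image (fun z => closure {z}) := rfl
    obtain ⟨w, hw, hsub⟩ := isIrreducible_iff_sUnion_isClosed.mp hZ
      ((Set.toFinite Z).toFinset.image fun z => closure {z})
      (by simp)
      (fun z hz => mem_sUnion.mpr ⟨closure {z}, by simpa using ⟨z, hz, rfl⟩, subset_closure rfl⟩)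
    obtain ⟨z, hz, rfl⟩ := Finset.mem_image.mp hw
    exact ⟨z, by simpa using hz, hsub⟩
  exact ⟨z, (hZc.closure_subset_iff.mpr (singleton_subset_iff.mpr hz)).antisymm hzZ⟩

end Groth.Agent.H28Top
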