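import Mathlib.Topology.Spectral.Prespectral
import Mathlib.Topology.QuasiSeparated
import Mathlib.Topology.Connected.Clopen
import Mathlib.Topology.Separation.Basic

/-! Connected components of quasi-compact, quasi-separated spaces with a basis of compact opens. -/

open Set Topology

set_option linter.style.haveILetI false

namespace Groth.Agent.H28Top

universe u

variable {X : Type u} [TopologicalSpace X] [CompactSpace X] [PrespectralSpace X] [QuasiSeparatedSpace X]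

theorem connectedComponent_eq_sInter_isClopen (x : X) :
    connectedComponent x = ⋂₀ {Z : Set X | IsClopen Z ∧ x ∈ Z} := by
  classical
  set Q := ⋂₀ {Z : Set X | IsClopen Z ∧ x ∈ Z} with hQdef
  have hQc : IsClosed Q := isClosed_sInter fun Z hZ => hZ.1.1
  have hxQ : x ∈ Q := fun Z hZ => hZ.2
  have hsub : connectedComponent x ⊆ Q := fun y hy Z hZ =>
    hZ.1.connectedComponent_subset hZ.2 hy
  refine hsub.antisymm (IsPreconnected.subset_connectedComponent ?_ hxQ)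
  rw [isPreconnected_closed_iff]
  intro A B hA hB hcov hAne hBne
  by_contra hemp
  rw [not_nonempty_iff_eq_empty] at hemp
  -- compact open neighbourhoods of the two pieces
  have hQA : IsCompact (Q ∩ A) := (hQc.inter hA).isCompact
  have hQB : IsCompact (Q ∩ B) := (hQc.inter hB).isCompact
  obtain ⟨W₁, hW₁c, hW₁o, hA₁, hB₁⟩ := PrespectralSpace.exists_isCompact_and_isOpen_between hQA
    (isOpen_compl_iff.mpr (hQc.inter hB)) (fun y hy hy' =>
      Set.eq_empty_iff_forall_notMem.mp hemp y ⟨hy.1, hy.2, hy'.2⟩)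
  obtain ⟨W₂, hW₂c, hW₂o, hB₂, hA₂⟩ := PrespectralSpace.exists_isCompact_and_isOpen_between hQB
    (isOpen_compl_iff.mpr (hQc.inter hA)) (fun y hy hy' =>
      Set.eq_empty_iff_forall_notMem.mp hemp y ⟨hy.1, hy'.2, hy.2⟩)
  let K : Set X := (W₁ ∩ W₂) ∪ (W₁ ∪ W₂)ᶜ
  have hK : IsCompact K :=
    (hW₁c.inter_of_isOpen hW₂c hW₁o hW₂o).union ((hW₁o.union hW₂o).isClosed_compl.isCompact)
  have hKQ : K ∩ (⋂ Z : {Z : Set X // IsClopen Z ∧ x ∈ Z}, (Z : Set X)) = ∅ := by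
    rw [Set.eq_empty_iff_forall_notMem]
    rintro y ⟨hyK, hy⟩
    have hyQ : y ∈ Q := fun Z hZ => mem_iInter.mp hy ⟨Z, hZ⟩
    rcases hyK with ⟨h1, h2⟩ | h
    · rcases hcov hyQ with h' | h'
      · exact hA₂ h2 ⟨hyQ, h'⟩
      · exact hB₁ h1 ⟨hyQ, h'⟩
    · rcases hcov hyQ with h' | h'
      · exact h (.inl (hA₁ ⟨hyQ, h'⟩))
      · exact h (.inr (hB₂ ⟨hyQ, h'⟩))
  obtain ⟨t, ht⟩ := hK.elim_finite_subfamily_closed
    (fun Z : {Z : Set X // IsClopen Z ∧ x ∈ Z} => (Z : Set X)) (fun Z => Z.2.1.1) hKQ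
  set Z := ⋂ i ∈ t, (i : Set X) with hZdef
  have hZ : IsClopen Z := isClopen_biInter_finset fun i _ => i.2.1
  have hxZ : x ∈ Z := mem_iInter₂.mpr fun i _ => i.2.2
  have hZK : ∀ y ∈ Z, y ∉ K := fun y hy hyK => Set.eq_empty_iff_forall_notMem.mp ht y ⟨hyK, hy⟩
  have key : ∀ W W' : Set X, IsOpen W → IsOpen W' → (∀ y ∈ Z, (y ∈ W ↔ y ∉ W')) → x ∈ W → Q ⊆ W := by
    intro W W' hW hW' hiff hxW
    have h : IsClopen (Z ∩ W) := by
      refine ⟨?_, hZ.2.inter hW⟩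
      have : Z ∩ W = Z ∩ W'ᶜ := by
        ext y; exact ⟨fun h => ⟨h.1, (hiff y h.1).mp h.2⟩, fun h => ⟨h.1, (hiff y h.1).mpr h.2⟩⟩
      rw [this]
      exact hZ.1.inter hW'.isClosed_compl
    exact fun y hy => (hy (Z ∩ W) ⟨h, hxZ, hxW⟩).2
  have hiff : ∀ y ∈ Z, (y ∈ W₁ ↔ y ∉ W₂) := fun y hy =>
    ⟨fun h1 h2 => hZK y hy (.inl ⟨h1, h2⟩),
      fun h2 => by_contra fun h1 => hZK y hy (.inr fun h => h.elim h1 h2)⟩
  rcases hcov hxQ with hxA | hxB
  · obtain ⟨b, hbQ, hbB⟩ := hBne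
    exact hB₁ (key W₁ W₂ hW₁o hW₂o hiff (hA₁ ⟨hxQ, hxA⟩) hbQ) ⟨hbQ, hbB⟩
  · obtain ⟨a, haQ, haA⟩ := hAne
    exact hA₂ (key W₂ W₁ hW₂o hW₁o (fun y hy => by have := hiff y hy; tauto) (hB₂ ⟨hxQ, hxB⟩) haQ) ⟨haQ, haA⟩

end Groth.Agent.H28Top
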