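import Mathlib.Topology.Separation.Regular
import Mathlib.Topology.ShrinkingLemma
import Mathlib.Topology.Maps.Basic

/-! Shrinking covers of compact relatively Hausdorff subsets. -/

open Set Topology

set_option linter.style.haveILetI false

namespace Groth.Agent.H28Top

universe u

variable {X : Type u} [TopologicalSpace X] {Z : Set X}

/-- Points of `Z` have disjoint neighbourhoods in the ambient space. -/
def RelHausdorff (Z : Set X) : Prop :=
  ∀ z ∈ Z, ∀ z' ∈ Z, z ≠ z' → ∃ A B : Set X, IsOpen A ∧ IsOpen B ∧ z ∈ A ∧ z' ∈ B ∧ Disjoint A B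

theorem RelHausdorff.separatedNhds (hZ : RelHausdorff Z) {K L : Set X} (hK : IsCompact K)
    (hL : IsCompact L) (hKZ : K ⊆ Z) (hLZ : L ⊆ Z) (h : Disjoint K L) : SeparatedNhds K L := by
  have hpt : ∀ z ∈ K, SeparatedNhds {z} L := by
    intro z hz
    have : ∀ w : L, ∃ A B : Set X, IsOpen A ∧ IsOpen B ∧ z ∈ A ∧ (w : X) ∈ B ∧ Disjoint A B := fun w =>
      hZ z (hKZ hz) w (hLZ w.2) fun he => Set.disjoint_left.mp h hz (he ▸ w.2)
    choose A B hA hB hzA hwB hAB using this
    obtain ⟨t, ht⟩ := hL.elim_finite_subcover B hB (fun w hw => mem_iUnion.mpr ⟨⟨w, hw⟩, hwB _⟩)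
    refine ⟨⋂ w ∈ t, A w, ⋃ w ∈ t, B w, isOpen_biInter_finset fun w _ => hA w,
      isOpen_biUnion fun w _ => hB w, ?_, ht, ?_⟩
    · exact singleton_subset_iff.mpr (mem_iInter₂.mpr fun w _ => hzA w)
    · rw [Set.disjoint_iUnion₂_right]
      exact fun w hw => (hAB w).mono_left (iInter₂_subset w hw)
  choose A B hA hB hzA hLB hAB using hpt
  obtain ⟨t, ht⟩ := hK.elim_finite_subcover (fun z : K => A z.1 z.2) (fun z => hA _ _)
    (fun z hz => mem_iUnion.mpr ⟨⟨z, hz⟩, hzA z hz rfl⟩)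
  refine ⟨⋃ z ∈ t, A z.1 z.2, ⋂ z ∈ t, B z.1 z.2, isOpen_biUnion fun z _ => hA _ _,
    isOpen_biInter_finset fun z _ => hB _ _, ht, subset_iInter₂ fun z _ => hLB _ _, ?_⟩
  rw [Set.disjoint_iUnion₂_left]
  exact fun z hz => (hAB _ _).mono_right (iInter₂_subset z hz)

theorem RelHausdorff.isCompact_inter (hZ : RelHausdorff Z) {K L : Set X} (hK : IsCompact K)
    (hL : IsCompact L) (hKZ : K ⊆ Z) (hLZ : L ⊆ Z) : IsCompact (K ∩ L) := by
  haveI : T2Space Z := ⟨fun a b hab => by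
    obtain ⟨A, B, hA, hB, ha, hb, hd⟩ := hZ a a.2 b b.2 fun h => hab (Subtype.ext h)
    exact ⟨Subtype.val ⁻¹' A, Subtype.val ⁻¹' B, hA.preimage continuous_subtype_val,
      hB.preimage continuous_subtype_val, ha, hb, hd.preimage _⟩⟩
  have key : ∀ M : Set X, IsCompact M → M ⊆ Z → IsCompact (Subtype.val ⁻¹' M : Set Z) := fun M hM hMZ => by
    rwa [Subtype.isCompact_iff, Subtype.image_preimage_coe, inter_eq_right.mpr hMZ]
  have := ((key K hK hKZ).inter_right (key L hL hLZ).isClosed).image continuous_subtype_val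
  rwa [← preimage_inter, Subtype.image_preimage_coe, inter_eq_right.mpr (inter_subset_left.trans hKZ)] at this

theorem RelHausdorff.exists_closed_shrinking (hZ : RelHausdorff Z) (hZc : IsCompact Z) {ι : Type*}
    (U : ι → Set X) (hU : ∀ i, IsOpen (U i)) (hcov : Z ⊆ ⋃ i, U i) :
    ∃ (J : Finset ι) (K : ι → Set X), (∀ i, IsCompact (K i)) ∧ (∀ i, K i ⊆ Z ∩ U i) ∧
      Z ⊆ ⋃ i ∈ J, K i := by
  classical
  obtain ⟨J, hJ⟩ := hZc.elim_finite_subcover U hU hcov
  suffices ∀ (J : Finset ι) (L : Set X), IsCompact L → L ⊆ Z → L ⊆ ⋃ i ∈ J, U i →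
      ∃ K : ι → Set X, (∀ i, IsCompact (K i)) ∧ (∀ i, K i ⊆ Z ∩ U i) ∧ L ⊆ ⋃ i ∈ J, K i by
    obtain ⟨K, h⟩ := this J Z hZc subset_rfl hJ
    exact ⟨J, K, h⟩
  intro J
  induction J using Finset.induction_on with
  | empty => exact fun L _ _ h => ⟨fun _ => ∅, fun _ => isCompact_empty, fun _ => empty_subset _, h.trans (by simp)⟩
  | insert a J ha ih =>
    intro L hLc hLZ hLJ
    rw [Finset.set_biUnion_insert] at hLJ
    have hW : IsOpen (⋃ i ∈ J, U i) := isOpen_biUnion fun i _ => hU i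
    obtain ⟨P, Q, hP, hQ, hPL, hQL, hPQ⟩ := hZ.separatedNhds
      (hLc.inter_right hW.isClosed_compl) (hLc.inter_right (hU a).isClosed_compl)
      (inter_subset_left.trans hLZ) (inter_subset_left.trans hLZ)
      (Set.disjoint_left.mpr fun x h1 h2 => (hLJ h1.1).elim h2.2 h1.2)
    obtain ⟨K, hKc, hKs, hKcov⟩ := ih (L ∩ Pᶜ) (hLc.inter_right hP.isClosed_compl)
      (inter_subset_left.trans hLZ) fun x hx => by_contra fun hxW => hx.2 (hPL ⟨hx.1, hxW⟩)
    refine ⟨Function.update K a (L ∩ Qᶜ), fun i => ?_, fun i => ?_, fun x hx => ?_⟩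
    · by_cases h : i = a
      · subst h; simpa using hLc.inter_right hQ.isClosed_compl
      · rw [Function.update_of_ne h]; exact hKc i
    · by_cases h : i = a
      · subst h
        rw [Function.update_self]
        exact fun x hx => ⟨hLZ hx.1, by_contra fun hxU => hx.2 (hQL ⟨hx.1, hxU⟩)⟩
      · rw [Function.update_of_ne h]; exact hKs i
    · rw [Finset.set_biUnion_insert, Function.update_self]
      by_cases hxQ : x ∈ Q
      · refine .inr ?_
        obtain ⟨i, hi, hxi⟩ := mem_iUnion₂.mp (hKcov ⟨hx, fun hxP => Set.disjoint_left.mp hPQ hxP hxQ⟩)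
        exact mem_biUnion hi (by rwa [Function.update_of_ne (ne_of_mem_of_not_mem hi ha)])
      · exact .inl ⟨hx, hxQ⟩

theorem RelHausdorff.exists_nhds_iInter_subset (hZ : RelHausdorff Z) :
    ∀ (n : ℕ) (K : Fin (n + 1) → Set X), (∀ l, IsCompact (K l)) → (∀ l, K l ⊆ Z) →
      ∀ W : Set X, IsOpen W → (⋂ l, K l) ⊆ W →
      ∃ V : Fin (n + 1) → Set X, (∀ l, IsOpen (V l) ∧ K l ⊆ V l) ∧ (⋂ l, V l) ⊆ W := by
  intro n
  induction n with
  | zero =>
    intro K _ _ W hW hKW
    refine ⟨fun _ => W, fun l => ⟨hW, fun x hx => hKW (mem_iInter.mpr fun m => ?_)⟩, iInter_subset _ 0⟩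
    rwa [show m = l from Fin.ext (by omega)]
  | succ n ih =>
    intro K hKc hKZ W hW hKW
    have hrest : ∀ (S : Set X), IsCompact S → S ⊆ Z → IsCompact (S ∩ ⋂ l, K (Fin.succ l)) := by
      intro S hS hSZ
      suffices ∀ t : Finset (Fin (n + 1)), IsCompact (S ∩ ⋂ l ∈ t, K (Fin.succ l)) by
        simpa using this Finset.univ
      intro t
      induction t using Finset.induction_on with
      | empty => simpa using hS
      | insert a t _ iht =>
        rw [Finset.set_biInter_insert, inter_left_comm]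
        exact hZ.isCompact_inter (hKc _) iht (hKZ _) (inter_subset_left.trans hSZ)
    obtain ⟨P, Q, hP, hQ, hPK, hQK, hPQ⟩ := hZ.separatedNhds ((hKc 0).inter_right hW.isClosed_compl)
      (by simpa using hrest (K 1) (hKc 1) (hKZ 1) : IsCompact (K 1 ∩ ⋂ l, K (Fin.succ l)))
      (inter_subset_left.trans (hKZ 0)) (inter_subset_left.trans (hKZ 1))
      (Set.disjoint_left.mpr fun x h1 h2 => h1.2 (hKW (mem_iInter.mpr fun l =>
        Fin.cases h1.1 (fun m => mem_iInter.mp h2.2 m) l)))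
    obtain ⟨V, hV, hVQ⟩ := ih (fun l => K l.succ) (fun l => hKc _) (fun l => hKZ _) Q hQ fun x hx =>
      hQK ⟨by simpa using mem_iInter.mp hx 0, hx⟩
    refine ⟨Fin.cons (W ∪ P) V, fun l => ?_, fun x hx => ?_⟩
    · refine Fin.cases ?_ (fun m => ?_) l
      · simp only [Fin.cons_zero]
        exact ⟨hW.union hP, fun x hx => (em (x ∈ W)).imp id fun h => hPK ⟨hx, h⟩⟩
      · simp only [Fin.cons_succ]
        exact hV m
    · rw [mem_iInter] at hx
      have h0 : x ∈ W ∪ P := by simpa using hx 0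
      exact h0.resolve_right fun hxP => Set.disjoint_left.mp hPQ hxP
        (hVQ (mem_iInter.mpr fun m => by simpa using hx m.succ))

end Groth.Agent.H28Top
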