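import Groth.Agent.H28Top.Spectral
import Mathlib.Topology.Category.TopCat.Limits.Basic
import Mathlib.CategoryTheory.Filtered.Basic

/-! Limits of spectral spaces along spectral maps. -/

open Set Topology CategoryTheory CategoryTheory.Limits

set_option linter.style.haveILetI false

namespace Groth.Agent.H28Top

universe u

variable {J : Type u} [SmallCategory J] (F : J ⥤ TopCat.{u})

/-- The compatible families inside the product. -/
def compatSet : Set (∀ j, F.obj j) := {x | ∀ {i j : J} (a : i ⟶ j), F.map a (x i) = x j}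

variable {F} (c : Cone F)

/-- The canonical map from the point of a cone to the product. -/
def toPi (x : c.pt) : ∀ j, F.obj j := fun j => c.π.app j x

theorem cone_w_apply {i j : J} (a : i ⟶ j) (x : c.pt) : F.map a (c.π.app i x) = c.π.app j x := by
  rw [← c.w a]; rfl

theorem continuous_toPi : Continuous (toPi c) :=
  continuous_pi fun j => (c.π.app j).hom.continuous

theorem range_toPi (hc : IsLimit c) : range (toPi c) = compatSet F := by
  refine Subset.antisymm (by rintro _ ⟨x, rfl⟩ i j a; exact cone_w_apply c a x) fun y hy => ?_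
  let e := hc.conePointUniqueUpToIso (TopCat.limitConeIsLimit F)
  refine ⟨e.inv ⟨y, hy⟩, funext fun j => ?_⟩
  exact ConcreteCategory.congr_hom
    (hc.conePointUniqueUpToIso_inv_comp (TopCat.limitConeIsLimit F) j) ⟨y, hy⟩

theorem isEmbedding_toPi (hc : IsLimit c) : IsEmbedding (toPi c) := by
  let e := hc.conePointUniqueUpToIso (TopCat.limitConeIsLimit F)
  have h : toPi c = Subtype.val ∘ (TopCat.homeoOfIso e) := by
    funext x j
    exact (ConcreteCategory.congr_hom
      (hc.conePointUniqueUpToIso_hom_comp (TopCat.limitConeIsLimit F) j) x).symm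
  rw [h]
  exact IsEmbedding.subtypeVal.comp (TopCat.homeoOfIso e).isEmbedding

section

variable (hF : ∀ j, SpectralSpace (F.obj j))
  (hFm : ∀ {i j : J} (a : i ⟶ j), IsSpectralMap (F.map a : F.obj i → F.obj j))

include hF

theorem isClosed_constr_preimage_apply (i : J) {s : Set (F.obj i)}
    (hs : IsClosed[constructibleTopology (F.obj i)] s) :
    IsClosed[constructibleTopology (∀ j, F.obj j)] ((fun x => x i) ⁻¹' s) :=
  @IsClosed.preimage (∀ j, F.obj j) (F.obj i) (constructibleTopology _) (constructibleTopology _) _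
    (continuous_constr_of_isSpectralMap (isSpectralMap_apply (π := fun j => F.obj j) i)) _ hs

include hFm

theorem isClosed_constr_eq {i j : J} (a : i ⟶ j) :
    IsClosed[constructibleTopology (∀ j, F.obj j)] {x | F.map a (x i) = x j} := by
  refine @isClosed_eq (F.obj j) (∀ j, F.obj j) (constructibleTopology (F.obj j))
    (constructibleTopology _) (t2Space_constr (F.obj j)) _ _ ?_ ?_
  · exact @Continuous.comp (∀ j, F.obj j) (F.obj i) (F.obj j) (constructibleTopology _)
      (constructibleTopology _) (constructibleTopology _) _ _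
      (continuous_constr_of_isSpectralMap (hFm a))
      (continuous_constr_of_isSpectralMap (isSpectralMap_apply (π := fun j => F.obj j) i))
  · exact continuous_constr_of_isSpectralMap (isSpectralMap_apply (π := fun j => F.obj j) j)

theorem isClosed_constr_compatSet :
    IsClosed[constructibleTopology (∀ j, F.obj j)] (compatSet F) := by
  have : compatSet F = ⋂ a : Σ i j : J, (i ⟶ j), {x | F.map a.2.2 (x a.1) = x a.2.1} := by
    ext x
    simp only [compatSet, mem_iInter]
    exact ⟨fun h a => h a.2.2, fun h i j a => h ⟨i, j, a⟩⟩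
  rw [this]
  exact @isClosed_iInter _ _ (constructibleTopology _) _ fun a => isClosed_constr_eq hF hFm a.2.2

theorem spectralSpace_pt (hc : IsLimit c) : SpectralSpace c.pt := by
  let h := (isEmbedding_toPi c hc).toHomeomorph
  haveI : SpectralSpace (range (toPi c)) := spectralSpace_of_isClosed_constr
    (by rw [range_toPi c hc]; exact isClosed_constr_compatSet hF hFm)
  haveI : CompactSpace c.pt := h.symm.compactSpace
  exact h.isOpenEmbedding.spectralSpace

theorem isSpectralMap_toPi (hc : IsLimit c) : IsSpectralMap (toPi c) := by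
  refine ⟨continuous_toPi c, fun s ho hs => ?_⟩
  rw [(isEmbedding_toPi c hc).isCompact_iff, image_preimage_eq_inter_range, range_toPi c hc]
  exact isCompact_of_isClosed_constr (@IsClosed.inter _ _ _ (constructibleTopology _)
    (isClosed_constr_of_compactOpen ho hs) (isClosed_constr_compatSet hF hFm))

theorem isSpectralMap_π (hc : IsLimit c) (j : J) :
    IsSpectralMap (c.π.app j : c.pt → F.obj j) :=
  (isSpectralMap_apply (π := fun j => F.obj j) j).comp (isSpectralMap_toPi c hF hFm hc)

/-- Master existence lemma: a closed condition on the product meeting every finite set of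
compatibility equations contains a point of the limit. -/
theorem exists_mem_of_finite (hc : IsLimit c) (S : Set (∀ j, F.obj j))
    (hS : IsClosed[constructibleTopology (∀ j, F.obj j)] S)
    (hfin : ∀ t : Finset (Σ i j : J, (i ⟶ j)), ∃ x ∈ S, ∀ a ∈ t, F.map a.2.2 (x a.1) = x a.2.1) :
    ∃ x : c.pt, toPi c x ∈ S := by
  by_contra hcon
  push Not at hcon
  have hemp : S ∩ (⋂ a : Σ i j : J, (i ⟶ j), {x | F.map a.2.2 (x a.1) = x a.2.1}) = ∅ := by
    rw [Set.eq_empty_iff_forall_notMem]
    rintro y ⟨hyS, hy⟩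
    obtain ⟨x, rfl⟩ : y ∈ range (toPi c) := by
      rw [range_toPi c hc]
      exact fun {i j} a => mem_iInter.mp hy ⟨i, j, a⟩
    exact hcon x hyS
  have hScpt : @IsCompact _ (constructibleTopology (∀ j, F.obj j)) S :=
    @IsClosed.isCompact _ (constructibleTopology _) S (compactSpace_constr _) hS
  obtain ⟨t, ht⟩ := @IsCompact.elim_finite_subfamily_closed _ (constructibleTopology _) S _ hScpt
    (fun a : Σ i j : J, (i ⟶ j) => {x | F.map a.2.2 (x a.1) = x a.2.1})
    (fun a => isClosed_constr_eq hF hFm a.2.2) hemp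
  obtain ⟨x, hxS, hx⟩ := hfin t
  exact Set.eq_empty_iff_forall_notMem.mp ht x ⟨hxS, mem_iInter₂.mpr hx⟩

variable [IsCofiltered J]

omit hF hFm in
theorem exists_inf (O : Finset J) (t : Finset (Σ i j : J, (i ⟶ j))) :
    ∃ (k : J) (O' : Finset J), O ⊆ O' ∧ ∃ T : ∀ {X : J}, X ∈ O' → (k ⟶ X),
      ∀ a ∈ t, ∃ (h₁ : a.1 ∈ O') (h₂ : a.2.1 ∈ O'), T h₁ ≫ a.2.2 = T h₂ := by
  classical
  let O' : Finset J := O ∪ (t.image (fun a => a.1) ∪ t.image (fun a => a.2.1))
  have h₁ : ∀ a ∈ t, a.1 ∈ O' := fun a ha =>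
    Finset.mem_union_right _ (Finset.mem_union_left _ (Finset.mem_image_of_mem _ ha))
  have h₂ : ∀ a ∈ t, a.2.1 ∈ O' := fun a ha =>
    Finset.mem_union_right _ (Finset.mem_union_right _
      (Finset.mem_image_of_mem (fun a : Σ i j : J, (i ⟶ j) => a.2.1) ha))
  let H : Finset ((X : J) ×' (Y : J) ×' (_ : X ∈ O') ×' (_ : Y ∈ O') ×' (X ⟶ Y)) :=
    t.attach.image fun a => ⟨a.1.1, a.1.2.1, h₁ _ a.2, h₂ _ a.2, a.1.2.2⟩
  obtain ⟨k, T, hT⟩ := IsCofiltered.inf_exists O' H
  refine ⟨k, O', Finset.subset_union_left, T, fun a ha => ⟨h₁ a ha, h₂ a ha, ?_⟩⟩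
  exact hT _ _ (Finset.mem_image.mpr ⟨⟨a, ha⟩, Finset.mem_attach _ _, rfl⟩)

theorem exists_pt_mem (hc : IsLimit c) (Z : ∀ j, Set (F.obj j)) (hne : ∀ j, (Z j).Nonempty)
    (hZ : ∀ j, IsClosed[constructibleTopology (F.obj j)] (Z j))
    (hmaps : ∀ {i j : J} (a : i ⟶ j), MapsTo (F.map a) (Z i) (Z j)) :
    ∃ x : c.pt, ∀ j, c.π.app j x ∈ Z j := by
  classical
  obtain ⟨x, hx⟩ := exists_mem_of_finite c hF hFm hc (univ.pi Z) (by
    rw [univ_pi_eq_iInter]
    exact @isClosed_iInter _ _ (constructibleTopology _) _ fun j =>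
      isClosed_constr_preimage_apply hF j (hZ j)) fun t => by
    obtain ⟨k, O', -, T, hT⟩ := exists_inf ∅ t
    obtain ⟨z, hz⟩ := hne k
    refine ⟨fun j => if h : j ∈ O' then F.map (T h) z else (hne j).some, fun j _ => ?_, fun a ha => ?_⟩
    · by_cases h : j ∈ O'
      · simpa [h] using hmaps (T h) hz
      · simpa [h] using (hne j).some_mem
    · obtain ⟨h₁, h₂, e⟩ := hT a ha
      simp only [dif_pos h₁, dif_pos h₂, ← e, Functor.map_comp, ConcreteCategory.comp_apply]
  exact ⟨x, fun j => hx j (mem_univ j)⟩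

/-- A pro-constructible set at one level meeting every transition image meets the limit. -/
theorem exists_pt_of_preimage_nonempty (hc : IsLimit c) {i : J} {S : Set (F.obj i)}
    (hS : IsClosed[constructibleTopology (F.obj i)] S)
    (hne : ∀ (j : J) (a : j ⟶ i), (F.map a ⁻¹' S).Nonempty) :
    ∃ x : c.pt, c.π.app i x ∈ S := by
  classical
  obtain ⟨x, hx⟩ := exists_mem_of_finite c hF hFm hc _ (isClosed_constr_preimage_apply hF i hS)
    fun t => by
    have hnon : ∀ j, Nonempty (F.obj j) := fun j => by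
      obtain ⟨z, -⟩ := hne (IsCofiltered.min i j) (IsCofiltered.minToLeft i j)
      exact ⟨F.map (IsCofiltered.minToRight i j) z⟩
    obtain ⟨k, O', hsub, T, hT⟩ := exists_inf {i} t
    have hi : i ∈ O' := hsub (Finset.mem_singleton_self i)
    obtain ⟨z, hz⟩ := hne k (T hi)
    refine ⟨fun j => if h : j ∈ O' then F.map (T h) z else (hnon j).some, ?_, fun a ha => ?_⟩
    · simpa [hi] using hz
    · obtain ⟨h₁, h₂, e⟩ := hT a ha
      simp only [dif_pos h₁, dif_pos h₂, ← e, Functor.map_comp, ConcreteCategory.comp_apply]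
  exact ⟨x, hx⟩

theorem preimage_subset_iff (hc : IsLimit c) {i : J} {E G : Set (F.obj i)}
    (hE : IsClosed[constructibleTopology (F.obj i)] E)
    (hG : IsOpen[constructibleTopology (F.obj i)] G) :
    (c.π.app i ⁻¹' E ⊆ c.π.app i ⁻¹' G) ↔
      ∃ (j : J) (a : j ⟶ i), F.map a ⁻¹' E ⊆ F.map a ⁻¹' G := by
  refine ⟨fun h => ?_, fun ⟨j, a, ha⟩ x hx => ?_⟩
  · by_contra hcon
    push Not at hcon
    obtain ⟨x, hxE, hxG⟩ := exists_pt_of_preimage_nonempty c hF hFm hc (S := E \ G)
      (@IsClosed.inter _ E Gᶜ (constructibleTopology _) hE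
        (@IsOpen.isClosed_compl _ (constructibleTopology _) G hG)) fun j a => by
      obtain ⟨z, hz, hz'⟩ := not_subset.mp (hcon j a)
      exact ⟨z, hz, hz'⟩
    exact hxG (h hxE)
  · have h1 := @ha (c.π.app j x) (by rw [mem_preimage, cone_w_apply c a x]; exact hx)
    rw [mem_preimage, cone_w_apply c a x] at h1
    exact h1

omit [IsCofiltered J] in
theorem isConstructible_preimage_map {i j : J} (a : i ⟶ j) {s : Set (F.obj j)}
    (hs : IsConstructible s) : IsConstructible (F.map a ⁻¹' s) := by
  have hc := continuous_constr_of_isSpectralMap (hFm a)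
  have h := isClopen_constr_of_isConstructible hs
  exact isConstructible_iff_isClopen_constr.mpr
    ⟨@IsClosed.preimage _ _ (constructibleTopology _) (constructibleTopology _) _ hc _ h.1,
      @IsOpen.preimage _ _ (constructibleTopology _) (constructibleTopology _) _ hc _ h.2⟩

omit hF hFm [IsCofiltered J] in
theorem preimage_π_eq {k i : J} (a : k ⟶ i) (s : Set (F.obj i)) :
    c.π.app k ⁻¹' (F.map a ⁻¹' s) = c.π.app i ⁻¹' s := by
  ext x
  simp only [mem_preimage, cone_w_apply c a x]

omit hFm in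
theorem descend_compactOpen (hFm : ∀ {i j : J} (a : i ⟶ j), IsSpectralMap (F.map a : F.obj i → F.obj j))
    (hc : IsLimit c) {U : Set c.pt} (hU : IsOpen U) (hUc : IsCompact U) :
    ∃ (i : J) (Ui : Set (F.obj i)), IsOpen Ui ∧ IsCompact Ui ∧ c.π.app i ⁻¹' Ui = U := by
  classical
  haveI := spectralSpace_pt c hF hFm hc
  haveI : Nonempty J := IsCofiltered.nonempty
  let P : Set c.pt → Prop := fun V =>
    ∃ (i : J) (Vi : Set (F.obj i)), IsOpen Vi ∧ IsCompact Vi ∧ c.π.app i ⁻¹' Vi = V
  have huniv : P univ :=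
    ⟨Classical.arbitrary J, univ, isOpen_univ, isCompact_univ, preimage_univ⟩
  have hempty : P ∅ :=
    ⟨Classical.arbitrary J, ∅, isOpen_empty, isCompact_empty, preimage_empty⟩
  have hop : ∀ V W, P V → P W → P (V ∪ W) ∧ P (V ∩ W) := by
    rintro _ _ ⟨i, Vi, ho, hcp, rfl⟩ ⟨j, Wj, ho', hcp', rfl⟩
    let a := IsCofiltered.minToLeft i j
    let b := IsCofiltered.minToRight i j
    have ha := hcp.preimage_of_isOpen (hFm a) ho
    have hb := hcp'.preimage_of_isOpen (hFm b) ho'
    have hoa := ho.preimage (hFm a).continuous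
    have hob := ho'.preimage (hFm b).continuous
    refine ⟨⟨_, _, hoa.union hob, ha.union hb, ?_⟩, ⟨_, _, hoa.inter hob, ha.inter_of_isOpen hb hoa hob, ?_⟩⟩
    · rw [preimage_union, preimage_π_eq, preimage_π_eq]
    · rw [preimage_inter, preimage_π_eq, preimage_π_eq]
  have hb := (isTopologicalBasis_pi_compactOpen (π := fun j => F.obj j)).isInducing
    (isEmbedding_toPi c hc).isInducing
  rw [← range_comp] at hb
  obtain ⟨t, htf, rfl⟩ := eq_finite_iUnion_of_isTopologicalBasis_of_isCompact_open _ hb U hUc hU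
  clear hU hUc
  induction t, htf using Set.Finite.induction_on with
  | empty => simpa using hempty
  | @insert W t _ _ ih =>
  rw [biUnion_insert]
  refine (hop _ _ ?_ ih).1
  obtain ⟨V, hV, hVf⟩ := W
  have : (preimage (toPi c) ∘ fun U : {U : ∀ i, Set (F.obj i) //
      (∀ i, IsOpen (U i) ∧ IsCompact (U i)) ∧ {i | U i ≠ univ}.Finite} => univ.pi U.1)
        ⟨V, hV, hVf⟩ = ⋂ i ∈ hVf.toFinset, c.π.app i ⁻¹' V i := by
    ext x
    simp only [Function.comp_apply, mem_preimage, mem_pi, mem_univ, true_implies, mem_iInter,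
      Finite.mem_toFinset]
    refine ⟨fun h i _ => h i, fun h i => ?_⟩
    by_cases hi : V i = univ
    · simp [hi]
    · exact h i hi
  rw [this]
  induction hVf.toFinset using Finset.induction_on with
  | empty => simpa using huniv
  | insert i s _ ih =>
    rw [Finset.set_biInter_insert]
    exact (hop _ _ ⟨i, V i, (hV i).1, (hV i).2, rfl⟩ ih).2

theorem descend_constructible (hc : IsLimit c) {E : Set c.pt} (hE : IsConstructible E) :
    ∃ (i : J) (Ei : Set (F.obj i)), IsConstructible Ei ∧ c.π.app i ⁻¹' Ei = E := by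
  haveI := spectralSpace_pt c hF hFm hc
  induction hE using IsConstructible.empty_union_induction with
  | open_retrocompact U ho hr =>
    obtain ⟨i, Ui, h1, h2, h3⟩ := descend_compactOpen c hF hFm hc ho hr.isCompact
    exact ⟨i, Ui, h2.isConstructible h1, h3⟩
  | union s hs t ht ihs iht =>
    obtain ⟨i, Si, hSi, rfl⟩ := ihs
    obtain ⟨j, Tj, hTj, rfl⟩ := iht
    refine ⟨_, _, (isConstructible_preimage_map hF hFm (IsCofiltered.minToLeft i j) hSi).union
      (isConstructible_preimage_map hF hFm (IsCofiltered.minToRight i j) hTj), ?_⟩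
    rw [preimage_union, preimage_π_eq, preimage_π_eq]
  | compl s hs ih =>
    obtain ⟨i, Si, hSi, rfl⟩ := ih
    exact ⟨i, Siᶜ, isConstructible_compl.mpr hSi, preimage_compl⟩

theorem descend_subset (hc : IsLimit c) {i j : J} {E : Set (F.obj i)} {G : Set (F.obj j)}
    (hE : IsClosed[constructibleTopology (F.obj i)] E)
    (hG : IsOpen[constructibleTopology (F.obj j)] G)
    (h : c.π.app i ⁻¹' E ⊆ c.π.app j ⁻¹' G) :
    ∃ (k : J) (a : k ⟶ i) (b : k ⟶ j), F.map a ⁻¹' E ⊆ F.map b ⁻¹' G := by
  let a := IsCofiltered.minToLeft i j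
  let b := IsCofiltered.minToRight i j
  have hE' := @IsClosed.preimage _ _ (constructibleTopology _) (constructibleTopology _) _
    (continuous_constr_of_isSpectralMap (hFm a)) _ hE
  have hG' := @IsOpen.preimage _ _ (constructibleTopology _) (constructibleTopology _) _
    (continuous_constr_of_isSpectralMap (hFm b)) _ hG
  obtain ⟨k, m, hm⟩ := (preimage_subset_iff c hF hFm hc hE' hG').mp
    (by rw [preimage_π_eq, preimage_π_eq]; exact h)
  refine ⟨k, m ≫ a, m ≫ b, ?_⟩
  simpa [Functor.map_comp, preimage_preimage, Function.comp_def] using hm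

end

end Groth.Agent.H28Top
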