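import Groth.Prelude.Def_W4stktopologysheavesDim
import Mathlib.Topology.NoetherianSpace
import Mathlib.Topology.Spectral.Basic

/-! The soberification of a topological space. -/

open Set Topology TopologicalSpace PtTop

set_option linter.style.haveILetI false

namespace Groth.Agent.H28Top

universe u

variable {X : Type u} [TopologicalSpace X]

/-- The underlying set of a point of the soberification. -/
abbrev carrier (Z : Sob X) : Set X := IrreducibleCloseds.carrier Z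

theorem isIrreducible_carrier (Z : Sob X) : IsIrreducible (carrier Z) := IrreducibleCloseds.isIrreducible' Z

theorem isClosed_carrier (Z : Sob X) : IsClosed (carrier Z) := IrreducibleCloseds.isClosed' Z

/-- The open of the soberification attached to an open of `X`. -/
def sobOpen (U : Set X) : Set (Sob X) := {Z | (carrier Z ∩ U).Nonempty}

theorem sobOpen_iUnion {ι : Sort*} (U : ι → Set X) : sobOpen (⋃ i, U i) = ⋃ i, sobOpen (U i) := by
  ext Z
  simp [sobOpen, inter_iUnion]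

theorem sobOpen_inter {U V : Set X} (hU : IsOpen U) (hV : IsOpen V) :
    sobOpen (U ∩ V) = sobOpen U ∩ sobOpen V := by
  ext Z
  refine ⟨fun h => ⟨h.mono (by gcongr; exact inter_subset_left), h.mono (by gcongr; exact inter_subset_right)⟩,
    fun h => (isIrreducible_carrier Z).isPreirreducible U V hU hV h.1 h.2⟩

theorem sobOpen_univ : sobOpen (univ : Set X) = univ :=
  eq_univ_of_forall fun Z => by simpa [sobOpen] using (isIrreducible_carrier Z).nonempty

theorem isOpen_sobOpen {U : Set X} (hU : IsOpen U) : IsOpen (sobOpen U) :=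
  TopologicalSpace.isOpen_generateFrom_of_mem ⟨⟨U, hU⟩, rfl⟩

theorem exists_eq_sobOpen {S : Set (Sob X)} (hS : IsOpen S) : ∃ U : Set X, IsOpen U ∧ S = sobOpen U := by
  induction hS with
  | basic s hs => obtain ⟨U, rfl⟩ := hs; exact ⟨U, U.isOpen, rfl⟩
  | univ => exact ⟨univ, isOpen_univ, sobOpen_univ.symm⟩
  | inter s t _ _ hs ht =>
    obtain ⟨U, hU, rfl⟩ := hs
    obtain ⟨V, hV, rfl⟩ := ht
    exact ⟨U ∩ V, hU.inter hV, (sobOpen_inter hU hV).symm⟩
  | sUnion S _ ih =>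
    choose U hU hUS using ih
    refine ⟨⋃ s : S, U s.1 s.2, isOpen_iUnion fun s => hU _ _, ?_⟩
    rw [sobOpen_iUnion, sUnion_eq_iUnion]
    exact iUnion_congr fun s => hUS _ _

theorem toSob_mem_sobOpen {U : Set X} (hU : IsOpen U) {x : X} : toSob X x ∈ sobOpen U ↔ x ∈ U := by
  refine ⟨fun ⟨y, hy, hyU⟩ => ?_, fun hx => ⟨x, subset_closure rfl, hx⟩⟩
  obtain ⟨z, hz, rfl⟩ := mem_closure_iff.mp hy U hU hyU
  exact hz

theorem preimage_sobOpen {U : Set X} (hU : IsOpen U) : toSob X ⁻¹' sobOpen U = U :=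
  ext fun _ => toSob_mem_sobOpen hU

theorem continuous_toSob : Continuous (toSob X) := continuous_def.mpr fun S hS => by
  obtain ⟨U, hU, rfl⟩ := exists_eq_sobOpen hS
  rwa [preimage_sobOpen hU]

theorem isCompact_sobOpen {U : Set X} (hU : IsOpen U) (h : IsCompact U) : IsCompact (sobOpen U) := by
  refine isCompact_of_finite_subcover fun {ι} O hO hcov => ?_
  choose V hV hOV using fun i => exists_eq_sobOpen (hO i)
  obtain ⟨t, ht⟩ := h.elim_finite_subcover V hV fun x hx => by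
    obtain ⟨i, hi⟩ := mem_iUnion.mp (hcov ((toSob_mem_sobOpen hU).mpr hx))
    exact mem_iUnion.mpr ⟨i, (toSob_mem_sobOpen (hV i)).mp (hOV i ▸ hi)⟩
  refine ⟨t, fun Z ⟨x, hxZ, hxU⟩ => ?_⟩
  obtain ⟨i, hi, hxi⟩ := mem_iUnion₂.mp (ht hxU)
  exact mem_biUnion hi (hOV i ▸ ⟨x, hxZ, hxi⟩)

theorem isCompact_of_sobOpen {U : Set X} (hU : IsOpen U) (h : IsCompact (sobOpen U)) : IsCompact U := by
  refine isCompact_of_finite_subcover fun {ι} V hV hcov => ?_
  obtain ⟨t, ht⟩ := h.elim_finite_subcover (fun i => sobOpen (V i)) (fun i => isOpen_sobOpen (hV i))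
    fun Z ⟨x, hxZ, hxU⟩ => by
      obtain ⟨i, hi⟩ := mem_iUnion.mp (hcov hxU)
      exact mem_iUnion.mpr ⟨i, ⟨x, hxZ, hi⟩⟩
  refine ⟨t, fun x hx => ?_⟩
  obtain ⟨i, hi, hxi⟩ := mem_iUnion₂.mp (ht ((toSob_mem_sobOpen hU).mpr hx))
  exact mem_biUnion hi ((toSob_mem_sobOpen (hV i)).mp hxi)

theorem sob_specializes_iff {Z W : Sob X} :
    Z ⤳ W ↔ (carrier W) ⊆ (carrier Z) := by
  rw [specializes_iff_forall_open]
  constructor
  · intro h w hw
    by_contra hwZ
    obtain ⟨z, hz, hz'⟩ := h (sobOpen (carrier Z)ᶜ)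
      (isOpen_sobOpen (isClosed_carrier Z).isOpen_compl) ⟨w, hw, hwZ⟩
    exact hz' hz
  · intro hWZ S hS hW
    obtain ⟨U, -, rfl⟩ := exists_eq_sobOpen hS
    exact hW.mono fun x hx => ⟨hWZ hx.1, hx.2⟩

instance t0Space_sob : T0Space (Sob X) :=
  ⟨fun _ _ h => IrreducibleCloseds.ext ((sob_specializes_iff.mp h.specializes').antisymm
    (sob_specializes_iff.mp h.specializes))⟩

instance quasiSober_sob : QuasiSober (Sob X) := by
  refine ⟨fun {S} hS hSc => ?_⟩
  obtain ⟨U₀, hU₀, hU₀S⟩ := exists_eq_sobOpen hSc.isOpen_compl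
  have hmem : ∀ Z : Sob X, Z ∈ S ↔ (carrier Z) ⊆ U₀ᶜ := fun Z => by
    rw [← not_notMem, ← mem_compl_iff, hU₀S]
    simp [sobOpen, not_nonempty_iff_eq_empty, ← disjoint_iff_inter_eq_empty, subset_compl_iff_disjoint_right]
  have hirr : IsIrreducible U₀ᶜ := by
    refine ⟨?_, fun p q hp hq ⟨a, ha, hap⟩ ⟨b, hb, hbq⟩ => ?_⟩
    · obtain ⟨Z, hZ⟩ := hS.nonempty
      exact (isIrreducible_carrier Z).nonempty.mono ((hmem Z).mp hZ)
    · have hcl : ∀ x ∈ U₀ᶜ, toSob X x ∈ S := fun x hx => (hmem _).mpr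
        (closure_minimal (singleton_subset_iff.mpr hx) hU₀.isClosed_compl)
      obtain ⟨Z, hZS, hZp, hZq⟩ := hS.isPreirreducible _ _ (isOpen_sobOpen hp) (isOpen_sobOpen hq)
        ⟨_, hcl a ha, (toSob_mem_sobOpen hp).mpr hap⟩ ⟨_, hcl b hb, (toSob_mem_sobOpen hq).mpr hbq⟩
      obtain ⟨z, hz, hzpq⟩ := (isIrreducible_carrier Z).isPreirreducible p q hp hq hZp hZq
      exact ⟨z, (hmem Z).mp hZS hz, hzpq⟩
  let η : Sob X := (⟨U₀ᶜ, hirr, hU₀.isClosed_compl⟩ : IrreducibleCloseds X)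
  refine ⟨η, (isGenericPoint_iff_specializes (x := η)).mpr ?_⟩
  exact fun Z => by rw [sob_specializes_iff, hmem]

theorem spectralSpace_sob [CompactSpace X] [PrespectralSpace X] [QuasiSeparatedSpace X] :
    SpectralSpace (Sob X) := by
  haveI : CompactSpace (Sob X) := ⟨by rw [← sobOpen_univ]; exact isCompact_sobOpen isOpen_univ isCompact_univ⟩
  haveI : QuasiSeparatedSpace (Sob X) := ⟨fun S T hS hSc hT hTc => by
    obtain ⟨U, hU, rfl⟩ := exists_eq_sobOpen hS
    obtain ⟨V, hV, rfl⟩ := exists_eq_sobOpen hT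
    rw [← sobOpen_inter hU hV]
    exact isCompact_sobOpen (hU.inter hV)
      ((isCompact_of_sobOpen hU hSc).inter_of_isOpen (isCompact_of_sobOpen hV hTc) hU hV)⟩
  haveI : PrespectralSpace (Sob X) := ⟨TopologicalSpace.isTopologicalBasis_of_isOpen_of_nhds
    (fun S hS => hS.1) fun Z S hZ hS => by
      obtain ⟨U, hU, rfl⟩ := exists_eq_sobOpen hS
      obtain ⟨x, hxZ, hxU⟩ := hZ
      obtain ⟨V, ⟨hVo, hVc⟩, hxV, hVU⟩ :=
        PrespectralSpace.isTopologicalBasis.exists_subset_of_mem_open hxU hU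
      exact ⟨sobOpen V, ⟨isOpen_sobOpen hVo, isCompact_sobOpen hVo hVc⟩, ⟨x, hxZ, hxV⟩,
        fun W hW => hW.mono (inter_subset_inter_right _ hVU)⟩⟩
  exact {}

end Groth.Agent.H28Top
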