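import Mathlib.Topology.Category.TopCommRingCat
import Mathlib.Topology.Category.TopCat.Limits.Basic
import Mathlib.Algebra.Category.Ring.Limits
import Mathlib.Algebra.Category.Ring.Colimits
import Mathlib.Topology.Algebra.Ring.Basic

/-! Limits and colimits of topological commutative rings. -/

open CategoryTheory CategoryTheory.Limits

set_option linter.style.haveILetI false

namespace Groth.Agent.H28Top

universe u

variable {J : Type u} [SmallCategory J] (F : J ⥤ TopCommRingCat.{u})

/-- The subring of compatible families. -/
def compatSubring : Subring (∀ j, F.obj j) where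
  carrier := {x | ∀ {i j : J} (a : i ⟶ j), (F.map a).1 (x i) = x j}
  mul_mem' hx hy := fun a => by simp [hx a, hy a]
  one_mem' := fun a => by simp
  add_mem' hx hy := fun a => by simp [hx a, hy a]
  zero_mem' := fun a => by simp
  neg_mem' hx := fun a => by simp [hx a]

/-- The limit cone of topological rings. -/
def trLimitCone : Cone F where
  pt := TopCommRingCat.of (compatSubring F)
  π :=
    { app := fun j => ⟨(Pi.evalRingHom (fun j => F.obj j) j).comp (compatSubring F).subtype,
        (continuous_apply j).comp continuous_subtype_val⟩
      naturality := fun i j a => Subtype.ext (RingHom.ext fun x => (x.2 a).symm) }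

theorem cone_compat (s : Cone F) {i j : J} (a : i ⟶ j) (x : s.pt) :
    (F.map a).1 ((s.π.app i).1 x) = (s.π.app j).1 x := by
  rw [← s.w a]; rfl

/-- The limit cone is a limit. -/
def trLimitConeIsLimit : IsLimit (trLimitCone F) where
  lift s := ⟨(RingHom.pi fun j => ((s.π.app j).1 : s.pt →+* F.obj j)).codRestrict (compatSubring F)
      (by intro x i j a; exact cone_compat F s a x),
    Continuous.subtype_mk (continuous_pi fun j => (s.π.app j).2) _⟩
  fac s j := rfl
  uniq s m hm := Subtype.ext (RingHom.ext fun x => Subtype.ext (funext fun j =>
    congrArg (fun f => f.1 x) (hm j)))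

theorem hasLimits_topCommRingCat : HasLimits TopCommRingCat.{u} :=
  ⟨fun J _ => ⟨fun F => ⟨⟨⟨trLimitCone F, trLimitConeIsLimit F⟩⟩⟩⟩⟩

theorem preservesLimits_forget_topCat :
    PreservesLimits (forget₂ TopCommRingCat.{u} TopCat.{u}) :=
  ⟨fun {J} _ => ⟨fun {F} => preservesLimit_of_preserves_limit_cone (trLimitConeIsLimit F)
    { lift := fun s => TopCat.ofHom
        ⟨fun x => ⟨fun j => s.π.app j x, fun {i j} a => by
            show (forget₂ TopCommRingCat.{u} TopCat.{u}).map (F.map a) (s.π.app i x) = s.π.app j x
            rw [← s.w a]; rfl⟩,
          Continuous.subtype_mk (continuous_pi fun j => (s.π.app j).hom.continuous) _⟩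
      fac := fun s j => rfl
      uniq := fun s m hm => by
        ext x
        exact Subtype.ext (funext fun j => congrArg (fun f => TopCat.Hom.hom f x) (hm j)) }⟩⟩

theorem preservesLimits_forget_commRingCat :
    PreservesLimits (forget₂ TopCommRingCat.{u} CommRingCat.{u}) :=
  ⟨fun {J} _ => ⟨fun {F} => preservesLimit_of_preserves_limit_cone (trLimitConeIsLimit F)
    { lift := fun s => CommRingCat.ofHom
        ((RingHom.pi fun j => (s.π.app j).hom).codRestrict (compatSubring F) fun x i j a => by
          show (forget₂ TopCommRingCat.{u} CommRingCat.{u}).map (F.map a) (s.π.app i x) = s.π.app j x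
          rw [← s.w a]; rfl)
      fac := fun s j => rfl
      uniq := fun s m hm => by
        ext x
        exact Subtype.ext (funext fun j => congrArg (fun f => CommRingCat.Hom.hom f x) (hm j)) }⟩⟩

section Colimit

/-- The underlying colimit ring. -/
noncomputable def colimRing : Cocone (F ⋙ forget₂ TopCommRingCat.{u} CommRingCat.{u}) :=
  colimit.cocone _

/-- Candidate ring topologies on the colimit ring. -/
def candidates : Set (TopologicalSpace (colimRing F).pt) :=
  {t | @IsTopologicalRing (colimRing F).pt t _ ∧
    ∀ j, @Continuous (F.obj j) (colimRing F).pt _ t (CommRingCat.Hom.hom ((colimRing F).ι.app j))}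

/-- The finest ring topology making the coprojections continuous. -/
@[instance_reducible]
noncomputable def colimTop : TopologicalSpace (colimRing F).pt := sInf (candidates F)

theorem isTopologicalRing_colimTop : @IsTopologicalRing (colimRing F).pt (colimTop F) _ := by
  have hadd : @ContinuousAdd (colimRing F).pt (colimTop F) _ :=
    continuousAdd_sInf fun t ht => by letI := t; haveI := ht.1; infer_instance
  have hmul : @ContinuousMul (colimRing F).pt (colimTop F) _ :=
    continuousMul_sInf fun t ht => by letI := t; haveI := ht.1; infer_instance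
  have hneg : @ContinuousNeg (colimRing F).pt (colimTop F) _ :=
    continuousNeg_sInf fun t ht => by letI := t; haveI := ht.1; infer_instance
  letI := colimTop F
  exact { toContinuousAdd := hadd, toContinuousMul := hmul, toContinuousNeg := hneg }

/-- The colimit cocone of topological rings. -/
noncomputable def trColimitCocone : Cocone F where
  pt :=
    letI := colimTop F
    haveI := isTopologicalRing_colimTop F
    TopCommRingCat.of (colimRing F).pt
  ι :=
    { app := fun j => ⟨CommRingCat.Hom.hom ((colimRing F).ι.app j),
        continuous_sInf_rng.mpr fun t ht => ht.2 j⟩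
      naturality := fun i j a => Subtype.ext (congrArg CommRingCat.Hom.hom ((colimRing F).w a)) }

/-- The colimit cocone is a colimit. -/
noncomputable def trColimitCoconeIsColimit : IsColimit (trColimitCocone F) where
  desc s := ⟨CommRingCat.Hom.hom ((colimit.isColimit _).desc
      ((forget₂ TopCommRingCat.{u} CommRingCat.{u}).mapCocone s)), by
    let f : (colimRing F).pt →+* ((forget₂ TopCommRingCat.{u} CommRingCat.{u}).mapCocone s).pt :=
      CommRingCat.Hom.hom ((colimit.isColimit _).desc
      ((forget₂ TopCommRingCat.{u} CommRingCat.{u}).mapCocone s))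
    letI tS : TopologicalSpace ((forget₂ TopCommRingCat.{u} CommRingCat.{u}).mapCocone s).pt :=
      s.pt.isTopologicalSpace
    haveI : IsTopologicalRing ((forget₂ TopCommRingCat.{u} CommRingCat.{u}).mapCocone s).pt :=
      s.pt.isTopologicalRing
    refine continuous_iff_le_induced.mpr (sInf_le ⟨?_, fun j => ?_⟩)
    · letI : TopologicalSpace (colimRing F).pt := TopologicalSpace.induced f tS
      exact { toContinuousAdd := continuousAdd_induced f, toContinuousMul := continuousMul_induced f,
              toContinuousNeg := ⟨(continuous_induced_rng (f := f) (t₂ := tS)).mpr (by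
                have he : ((f : (colimRing F).pt → _) ∘ fun a => -a) = fun a => -(f a) := funext fun a => map_neg f a
                exact he ▸ continuous_neg.comp (continuous_induced_dom (f := f) (t := tS)))⟩ }
    · refine (continuous_induced_rng (t₂ := tS) (f := f)).mpr ?_
      have h := congrArg CommRingCat.Hom.hom ((colimit.isColimit _).fac
        ((forget₂ TopCommRingCat.{u} CommRingCat.{u}).mapCocone s) j)
      have hc := (s.ι.app j).2
      have h' : (fun x => CommRingCat.Hom.hom ((colimit.isColimit _).desc
          ((forget₂ TopCommRingCat.{u} CommRingCat.{u}).mapCocone s))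
          (CommRingCat.Hom.hom ((colimRing F).ι.app j) x)) = ⇑(s.ι.app j).1 :=
        funext fun x => RingHom.congr_fun h x
      rw [← h'] at hc
      exact hc⟩
  fac s j := Subtype.ext (congrArg CommRingCat.Hom.hom ((colimit.isColimit _).fac
      ((forget₂ TopCommRingCat.{u} CommRingCat.{u}).mapCocone s) j))
  uniq s m hm := Subtype.ext (congrArg CommRingCat.Hom.hom ((colimit.isColimit _).uniq
      ((forget₂ TopCommRingCat.{u} CommRingCat.{u}).mapCocone s) (CommRingCat.ofHom m.1)
      fun j => CommRingCat.hom_ext (congrArg Subtype.val (hm j))))

theorem hasColimits_topCommRingCat : HasColimits TopCommRingCat.{u} :=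
  ⟨fun J _ => ⟨fun F => ⟨⟨⟨trColimitCocone F, trColimitCoconeIsColimit F⟩⟩⟩⟩⟩

theorem preservesColimits_forget_commRingCat :
    PreservesColimits (forget₂ TopCommRingCat.{u} CommRingCat.{u}) :=
  ⟨fun {J} _ => ⟨fun {F} => preservesColimit_of_preserves_colimit_cocone (trColimitCoconeIsColimit F)
    (IsColimit.ofIsoColimit (colimit.isColimit _) (Cocone.ext (Iso.refl _) fun j => by rfl))⟩⟩

end Colimit

end Groth.Agent.H28Top
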